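import Cfsg.Agent.Lib.Fi24Pres.Cover3.Maps
import Cfsg.Agent.Lib.Fi24Pres.Cover3.Data.Dk3
import Cfsg.Agent.Lib.Fi24Pres.Cover3.Data.E0
import Cfsg.Agent.Lib.Fi24Pres.Data.D0

/-! The braid relation of k and a. -/

set_option autoImplicit false
set_option maxRecDepth 100000
set_option Elab.async false

namespace Cfsg.Agent.Fi24Pres.Cover3

noncomputable section

theorem kbr0_0 : allIn (braidAt key3 lift3 (odd3 dk3) (genH e0 d0 0)) 0 8192 = true := by
  decide +kernel

theorem kbr0_1 : allIn (braidAt key3 lift3 (odd3 dk3) (genH e0 d0 0)) 8192 8192 = true := by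
  decide +kernel

theorem kbr0_2 : allIn (braidAt key3 lift3 (odd3 dk3) (genH e0 d0 0)) 16384 8192 = true := by
  decide +kernel

theorem kbr0_3 : allIn (braidAt key3 lift3 (odd3 dk3) (genH e0 d0 0)) 24576 8192 = true := by
  decide +kernel

theorem kbr0_4 : allIn (braidAt key3 lift3 (odd3 dk3) (genH e0 d0 0)) 32768 8192 = true := by
  decide +kernel

theorem kbr0_5 : allIn (braidAt key3 lift3 (odd3 dk3) (genH e0 d0 0)) 40960 8192 = true := by
  decide +kernel

theorem kbr0_6 : allIn (braidAt key3 lift3 (odd3 dk3) (genH e0 d0 0)) 49152 8192 = true := by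
  decide +kernel

theorem kbr0_7 : allIn (braidAt key3 lift3 (odd3 dk3) (genH e0 d0 0)) 57344 8192 = true := by
  decide +kernel

theorem kbr0_8 : allIn (braidAt key3 lift3 (odd3 dk3) (genH e0 d0 0)) 65536 8192 = true := by
  decide +kernel

theorem kbr0_9 : allIn (braidAt key3 lift3 (odd3 dk3) (genH e0 d0 0)) 73728 8192 = true := by
  decide +kernel

theorem kbr0_10 : allIn (braidAt key3 lift3 (odd3 dk3) (genH e0 d0 0)) 81920 8192 = true := by
  decide +kernel

theorem kbr0_11 : allIn (braidAt key3 lift3 (odd3 dk3) (genH e0 d0 0)) 90112 8192 = true := by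
  decide +kernel

theorem kbr0_12 : allIn (braidAt key3 lift3 (odd3 dk3) (genH e0 d0 0)) 98304 8192 = true := by
  decide +kernel

theorem kbr0_13 : allIn (braidAt key3 lift3 (odd3 dk3) (genH e0 d0 0)) 106496 8192 = true := by
  decide +kernel

theorem kbr0_14 : allIn (braidAt key3 lift3 (odd3 dk3) (genH e0 d0 0)) 114688 8192 = true := by
  decide +kernel

theorem kbr0_15 : allIn (braidAt key3 lift3 (odd3 dk3) (genH e0 d0 0)) 122880 8192 = true := by
  decide +kernel

theorem kbr0_16 : allIn (braidAt key3 lift3 (odd3 dk3) (genH e0 d0 0)) 131072 8192 = true := by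
  decide +kernel

theorem kbr0_17 : allIn (braidAt key3 lift3 (odd3 dk3) (genH e0 d0 0)) 139264 8192 = true := by
  decide +kernel

theorem kbr0_18 : allIn (braidAt key3 lift3 (odd3 dk3) (genH e0 d0 0)) 147456 8192 = true := by
  decide +kernel

theorem kbr0_19 : allIn (braidAt key3 lift3 (odd3 dk3) (genH e0 d0 0)) 155648 8192 = true := by
  decide +kernel

theorem kbr0_20 : allIn (braidAt key3 lift3 (odd3 dk3) (genH e0 d0 0)) 163840 8192 = true := by
  decide +kernel

theorem kbr0_21 : allIn (braidAt key3 lift3 (odd3 dk3) (genH e0 d0 0)) 172032 8192 = true := by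
  decide +kernel

theorem kbr0_22 : allIn (braidAt key3 lift3 (odd3 dk3) (genH e0 d0 0)) 180224 8192 = true := by
  decide +kernel

theorem kbr0_23 : allIn (braidAt key3 lift3 (odd3 dk3) (genH e0 d0 0)) 188416 8192 = true := by
  decide +kernel

theorem kbr0_24 : allIn (braidAt key3 lift3 (odd3 dk3) (genH e0 d0 0)) 196608 8192 = true := by
  decide +kernel

theorem kbr0_25 : allIn (braidAt key3 lift3 (odd3 dk3) (genH e0 d0 0)) 204800 8192 = true := by
  decide +kernel

theorem kbr0_26 : allIn (braidAt key3 lift3 (odd3 dk3) (genH e0 d0 0)) 212992 8192 = true := by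
  decide +kernel

theorem kbr0_27 : allIn (braidAt key3 lift3 (odd3 dk3) (genH e0 d0 0)) 221184 8192 = true := by
  decide +kernel

theorem kbr0_28 : allIn (braidAt key3 lift3 (odd3 dk3) (genH e0 d0 0)) 229376 8192 = true := by
  decide +kernel

theorem kbr0_29 : allIn (braidAt key3 lift3 (odd3 dk3) (genH e0 d0 0)) 237568 8192 = true := by
  decide +kernel

theorem kbr0_30 : allIn (braidAt key3 lift3 (odd3 dk3) (genH e0 d0 0)) 245760 8192 = true := by
  decide +kernel

theorem kbr0_31 : allIn (braidAt key3 lift3 (odd3 dk3) (genH e0 d0 0)) 253952 8192 = true := by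
  decide +kernel

theorem kbr0_32 : allIn (braidAt key3 lift3 (odd3 dk3) (genH e0 d0 0)) 262144 8192 = true := by
  decide +kernel

theorem kbr0_33 : allIn (braidAt key3 lift3 (odd3 dk3) (genH e0 d0 0)) 270336 8192 = true := by
  decide +kernel

theorem kbr0_34 : allIn (braidAt key3 lift3 (odd3 dk3) (genH e0 d0 0)) 278528 8192 = true := by
  decide +kernel

theorem kbr0_35 : allIn (braidAt key3 lift3 (odd3 dk3) (genH e0 d0 0)) 286720 8192 = true := by
  decide +kernel

theorem kbr0_36 : allIn (braidAt key3 lift3 (odd3 dk3) (genH e0 d0 0)) 294912 8192 = true := by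
  decide +kernel

theorem kbr0_37 : allIn (braidAt key3 lift3 (odd3 dk3) (genH e0 d0 0)) 303104 3832 = true := by
  decide +kernel

theorem kbr0 : ∀ c < 306936, (braidAt key3 lift3 (odd3 dk3) (genH e0 d0 0)) c = true := fun c hc =>
  (allIn_glue kbr0_0 (allIn_glue kbr0_1 (allIn_glue kbr0_2 (allIn_glue kbr0_3 (allIn_glue kbr0_4 (allIn_glue kbr0_5 (allIn_glue kbr0_6 (allIn_glue kbr0_7 (allIn_glue kbr0_8 (allIn_glue kbr0_9 (allIn_glue kbr0_10 (allIn_glue kbr0_11 (allIn_glue kbr0_12 (allIn_glue kbr0_13 (allIn_glue kbr0_14 (allIn_glue kbr0_15 (allIn_glue kbr0_16 (allIn_glue kbr0_17 (allIn_glue kbr0_18 (allIn_glue kbr0_19 (allIn_glue kbr0_20 (allIn_glue kbr0_21 (allIn_glue kbr0_22 (allIn_glue kbr0_23 (allIn_glue kbr0_24 (allIn_glue kbr0_25 (allIn_glue kbr0_26 (allIn_glue kbr0_27 (allIn_glue kbr0_28 (allIn_glue kbr0_29 (allIn_glue kbr0_30 (allIn_glue kbr0_31 (allIn_glue kbr0_32 (allIn_glue kbr0_33 (allIn_glue kbr0_34 (allIn_glue kbr0_35 (allIn_glue kbr0_36 (allIn_spec kbr0_37))))))))))))))))))))))))))))))))))))))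 c (Nat.zero_le c) hc

end

end Cfsg.Agent.Fi24Pres.Cover3
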