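import Cfsg.Agent.Lib.Fi24Pres.Cover3.Maps
import Cfsg.Agent.Lib.Fi24Pres.Cover3.Data.Dk3
import Cfsg.Agent.Lib.Fi24Pres.Cover3.Data.E1
import Cfsg.Agent.Lib.Fi24Pres.Data.D1

/-! k commutes with a generator. -/

set_option autoImplicit false
set_option maxRecDepth 100000
set_option Elab.async false

namespace Cfsg.Agent.Fi24Pres.Cover3

noncomputable section

theorem kcm1_0 : allIn (commAt key3 lift3 (odd3 dk3) (genH e1 d1 1)) 0 8192 = true := by
  decide +kernel

theorem kcm1_1 : allIn (commAt key3 lift3 (odd3 dk3) (genH e1 d1 1)) 8192 8192 = true := by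
  decide +kernel

theorem kcm1_2 : allIn (commAt key3 lift3 (odd3 dk3) (genH e1 d1 1)) 16384 8192 = true := by
  decide +kernel

theorem kcm1_3 : allIn (commAt key3 lift3 (odd3 dk3) (genH e1 d1 1)) 24576 8192 = true := by
  decide +kernel

theorem kcm1_4 : allIn (commAt key3 lift3 (odd3 dk3) (genH e1 d1 1)) 32768 8192 = true := by
  decide +kernel

theorem kcm1_5 : allIn (commAt key3 lift3 (odd3 dk3) (genH e1 d1 1)) 40960 8192 = true := by
  decide +kernel

theorem kcm1_6 : allIn (commAt key3 lift3 (odd3 dk3) (genH e1 d1 1)) 49152 8192 = true := by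
  decide +kernel

theorem kcm1_7 : allIn (commAt key3 lift3 (odd3 dk3) (genH e1 d1 1)) 57344 8192 = true := by
  decide +kernel

theorem kcm1_8 : allIn (commAt key3 lift3 (odd3 dk3) (genH e1 d1 1)) 65536 8192 = true := by
  decide +kernel

theorem kcm1_9 : allIn (commAt key3 lift3 (odd3 dk3) (genH e1 d1 1)) 73728 8192 = true := by
  decide +kernel

theorem kcm1_10 : allIn (commAt key3 lift3 (odd3 dk3) (genH e1 d1 1)) 81920 8192 = true := by
  decide +kernel

theorem kcm1_11 : allIn (commAt key3 lift3 (odd3 dk3) (genH e1 d1 1)) 90112 8192 = true := by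
  decide +kernel

theorem kcm1_12 : allIn (commAt key3 lift3 (odd3 dk3) (genH e1 d1 1)) 98304 8192 = true := by
  decide +kernel

theorem kcm1_13 : allIn (commAt key3 lift3 (odd3 dk3) (genH e1 d1 1)) 106496 8192 = true := by
  decide +kernel

theorem kcm1_14 : allIn (commAt key3 lift3 (odd3 dk3) (genH e1 d1 1)) 114688 8192 = true := by
  decide +kernel

theorem kcm1_15 : allIn (commAt key3 lift3 (odd3 dk3) (genH e1 d1 1)) 122880 8192 = true := by
  decide +kernel

theorem kcm1_16 : allIn (commAt key3 lift3 (odd3 dk3) (genH e1 d1 1)) 131072 8192 = true := by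
  decide +kernel

theorem kcm1_17 : allIn (commAt key3 lift3 (odd3 dk3) (genH e1 d1 1)) 139264 8192 = true := by
  decide +kernel

theorem kcm1_18 : allIn (commAt key3 lift3 (odd3 dk3) (genH e1 d1 1)) 147456 8192 = true := by
  decide +kernel

theorem kcm1_19 : allIn (commAt key3 lift3 (odd3 dk3) (genH e1 d1 1)) 155648 8192 = true := by
  decide +kernel

theorem kcm1_20 : allIn (commAt key3 lift3 (odd3 dk3) (genH e1 d1 1)) 163840 8192 = true := by
  decide +kernel

theorem kcm1_21 : allIn (commAt key3 lift3 (odd3 dk3) (genH e1 d1 1)) 172032 8192 = true := by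
  decide +kernel

theorem kcm1_22 : allIn (commAt key3 lift3 (odd3 dk3) (genH e1 d1 1)) 180224 8192 = true := by
  decide +kernel

theorem kcm1_23 : allIn (commAt key3 lift3 (odd3 dk3) (genH e1 d1 1)) 188416 8192 = true := by
  decide +kernel

theorem kcm1_24 : allIn (commAt key3 lift3 (odd3 dk3) (genH e1 d1 1)) 196608 8192 = true := by
  decide +kernel

theorem kcm1_25 : allIn (commAt key3 lift3 (odd3 dk3) (genH e1 d1 1)) 204800 8192 = true := by
  decide +kernel

theorem kcm1_26 : allIn (commAt key3 lift3 (odd3 dk3) (genH e1 d1 1)) 212992 8192 = true := by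
  decide +kernel

theorem kcm1_27 : allIn (commAt key3 lift3 (odd3 dk3) (genH e1 d1 1)) 221184 8192 = true := by
  decide +kernel

theorem kcm1_28 : allIn (commAt key3 lift3 (odd3 dk3) (genH e1 d1 1)) 229376 8192 = true := by
  decide +kernel

theorem kcm1_29 : allIn (commAt key3 lift3 (odd3 dk3) (genH e1 d1 1)) 237568 8192 = true := by
  decide +kernel

theorem kcm1_30 : allIn (commAt key3 lift3 (odd3 dk3) (genH e1 d1 1)) 245760 8192 = true := by
  decide +kernel

theorem kcm1_31 : allIn (commAt key3 lift3 (odd3 dk3) (genH e1 d1 1)) 253952 8192 = true := by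
  decide +kernel

theorem kcm1_32 : allIn (commAt key3 lift3 (odd3 dk3) (genH e1 d1 1)) 262144 8192 = true := by
  decide +kernel

theorem kcm1_33 : allIn (commAt key3 lift3 (odd3 dk3) (genH e1 d1 1)) 270336 8192 = true := by
  decide +kernel

theorem kcm1_34 : allIn (commAt key3 lift3 (odd3 dk3) (genH e1 d1 1)) 278528 8192 = true := by
  decide +kernel

theorem kcm1_35 : allIn (commAt key3 lift3 (odd3 dk3) (genH e1 d1 1)) 286720 8192 = true := by
  decide +kernel

theorem kcm1_36 : allIn (commAt key3 lift3 (odd3 dk3) (genH e1 d1 1)) 294912 8192 = true := by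
  decide +kernel

theorem kcm1_37 : allIn (commAt key3 lift3 (odd3 dk3) (genH e1 d1 1)) 303104 3832 = true := by
  decide +kernel

theorem kcm1 : ∀ c < 306936, (commAt key3 lift3 (odd3 dk3) (genH e1 d1 1)) c = true := fun c hc =>
  (allIn_glue kcm1_0 (allIn_glue kcm1_1 (allIn_glue kcm1_2 (allIn_glue kcm1_3 (allIn_glue kcm1_4 (allIn_glue kcm1_5 (allIn_glue kcm1_6 (allIn_glue kcm1_7 (allIn_glue kcm1_8 (allIn_glue kcm1_9 (allIn_glue kcm1_10 (allIn_glue kcm1_11 (allIn_glue kcm1_12 (allIn_glue kcm1_13 (allIn_glue kcm1_14 (allIn_glue kcm1_15 (allIn_glue kcm1_16 (allIn_glue kcm1_17 (allIn_glue kcm1_18 (allIn_glue kcm1_19 (allIn_glue kcm1_20 (allIn_glue kcm1_21 (allIn_glue kcm1_22 (allIn_glue kcm1_23 (allIn_glue kcm1_24 (allIn_glue kcm1_25 (allIn_glue kcm1_26 (allIn_glue kcm1_27 (allIn_glue kcm1_28 (allIn_glue kcm1_29 (allIn_glue kcm1_30 (allIn_glue kcm1_31 (allIn_glue kcm1_32 (allIn_glue kcm1_33 (allIn_glue kcm1_34 (allIn_glue kcm1_35 (allIn_glue kcm1_36 (allIn_spec kcm1_37))))))))))))))))))))))))))))))))))))))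 c (Nat.zero_le c) hc

end

end Cfsg.Agent.Fi24Pres.Cover3
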