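import Cfsg.Agent.Lib.Fi24Pres.Cover3.Maps
import Cfsg.Agent.Lib.Fi24Pres.Cover3.Data.Dk3
import Cfsg.Agent.Lib.Fi24Pres.Cover3.Data.E3
import Cfsg.Agent.Lib.Fi24Pres.Data.D3

/-! k commutes with a generator. -/

set_option autoImplicit false
set_option maxRecDepth 100000
set_option Elab.async false

namespace Cfsg.Agent.Fi24Pres.Cover3

noncomputable section

theorem kcm3_0 : allIn (commAt key3 lift3 (odd3 dk3) (genH e3 d3 3)) 0 8192 = true := by
  decide +kernel

theorem kcm3_1 : allIn (commAt key3 lift3 (odd3 dk3) (genH e3 d3 3)) 8192 8192 = true := by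
  decide +kernel

theorem kcm3_2 : allIn (commAt key3 lift3 (odd3 dk3) (genH e3 d3 3)) 16384 8192 = true := by
  decide +kernel

theorem kcm3_3 : allIn (commAt key3 lift3 (odd3 dk3) (genH e3 d3 3)) 24576 8192 = true := by
  decide +kernel

theorem kcm3_4 : allIn (commAt key3 lift3 (odd3 dk3) (genH e3 d3 3)) 32768 8192 = true := by
  decide +kernel

theorem kcm3_5 : allIn (commAt key3 lift3 (odd3 dk3) (genH e3 d3 3)) 40960 8192 = true := by
  decide +kernel

theorem kcm3_6 : allIn (commAt key3 lift3 (odd3 dk3) (genH e3 d3 3)) 49152 8192 = true := by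
  decide +kernel

theorem kcm3_7 : allIn (commAt key3 lift3 (odd3 dk3) (genH e3 d3 3)) 57344 8192 = true := by
  decide +kernel

theorem kcm3_8 : allIn (commAt key3 lift3 (odd3 dk3) (genH e3 d3 3)) 65536 8192 = true := by
  decide +kernel

theorem kcm3_9 : allIn (commAt key3 lift3 (odd3 dk3) (genH e3 d3 3)) 73728 8192 = true := by
  decide +kernel

theorem kcm3_10 : allIn (commAt key3 lift3 (odd3 dk3) (genH e3 d3 3)) 81920 8192 = true := by
  decide +kernel

theorem kcm3_11 : allIn (commAt key3 lift3 (odd3 dk3) (genH e3 d3 3)) 90112 8192 = true := by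
  decide +kernel

theorem kcm3_12 : allIn (commAt key3 lift3 (odd3 dk3) (genH e3 d3 3)) 98304 8192 = true := by
  decide +kernel

theorem kcm3_13 : allIn (commAt key3 lift3 (odd3 dk3) (genH e3 d3 3)) 106496 8192 = true := by
  decide +kernel

theorem kcm3_14 : allIn (commAt key3 lift3 (odd3 dk3) (genH e3 d3 3)) 114688 8192 = true := by
  decide +kernel

theorem kcm3_15 : allIn (commAt key3 lift3 (odd3 dk3) (genH e3 d3 3)) 122880 8192 = true := by
  decide +kernel

theorem kcm3_16 : allIn (commAt key3 lift3 (odd3 dk3) (genH e3 d3 3)) 131072 8192 = true := by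
  decide +kernel

theorem kcm3_17 : allIn (commAt key3 lift3 (odd3 dk3) (genH e3 d3 3)) 139264 8192 = true := by
  decide +kernel

theorem kcm3_18 : allIn (commAt key3 lift3 (odd3 dk3) (genH e3 d3 3)) 147456 8192 = true := by
  decide +kernel

theorem kcm3_19 : allIn (commAt key3 lift3 (odd3 dk3) (genH e3 d3 3)) 155648 8192 = true := by
  decide +kernel

theorem kcm3_20 : allIn (commAt key3 lift3 (odd3 dk3) (genH e3 d3 3)) 163840 8192 = true := by
  decide +kernel

theorem kcm3_21 : allIn (commAt key3 lift3 (odd3 dk3) (genH e3 d3 3)) 172032 8192 = true := by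
  decide +kernel

theorem kcm3_22 : allIn (commAt key3 lift3 (odd3 dk3) (genH e3 d3 3)) 180224 8192 = true := by
  decide +kernel

theorem kcm3_23 : allIn (commAt key3 lift3 (odd3 dk3) (genH e3 d3 3)) 188416 8192 = true := by
  decide +kernel

theorem kcm3_24 : allIn (commAt key3 lift3 (odd3 dk3) (genH e3 d3 3)) 196608 8192 = true := by
  decide +kernel

theorem kcm3_25 : allIn (commAt key3 lift3 (odd3 dk3) (genH e3 d3 3)) 204800 8192 = true := by
  decide +kernel

theorem kcm3_26 : allIn (commAt key3 lift3 (odd3 dk3) (genH e3 d3 3)) 212992 8192 = true := by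
  decide +kernel

theorem kcm3_27 : allIn (commAt key3 lift3 (odd3 dk3) (genH e3 d3 3)) 221184 8192 = true := by
  decide +kernel

theorem kcm3_28 : allIn (commAt key3 lift3 (odd3 dk3) (genH e3 d3 3)) 229376 8192 = true := by
  decide +kernel

theorem kcm3_29 : allIn (commAt key3 lift3 (odd3 dk3) (genH e3 d3 3)) 237568 8192 = true := by
  decide +kernel

theorem kcm3_30 : allIn (commAt key3 lift3 (odd3 dk3) (genH e3 d3 3)) 245760 8192 = true := by
  decide +kernel

theorem kcm3_31 : allIn (commAt key3 lift3 (odd3 dk3) (genH e3 d3 3)) 253952 8192 = true := by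
  decide +kernel

theorem kcm3_32 : allIn (commAt key3 lift3 (odd3 dk3) (genH e3 d3 3)) 262144 8192 = true := by
  decide +kernel

theorem kcm3_33 : allIn (commAt key3 lift3 (odd3 dk3) (genH e3 d3 3)) 270336 8192 = true := by
  decide +kernel

theorem kcm3_34 : allIn (commAt key3 lift3 (odd3 dk3) (genH e3 d3 3)) 278528 8192 = true := by
  decide +kernel

theorem kcm3_35 : allIn (commAt key3 lift3 (odd3 dk3) (genH e3 d3 3)) 286720 8192 = true := by
  decide +kernel

theorem kcm3_36 : allIn (commAt key3 lift3 (odd3 dk3) (genH e3 d3 3)) 294912 8192 = true := by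
  decide +kernel

theorem kcm3_37 : allIn (commAt key3 lift3 (odd3 dk3) (genH e3 d3 3)) 303104 3832 = true := by
  decide +kernel

theorem kcm3 : ∀ c < 306936, (commAt key3 lift3 (odd3 dk3) (genH e3 d3 3)) c = true := fun c hc =>
  (allIn_glue kcm3_0 (allIn_glue kcm3_1 (allIn_glue kcm3_2 (allIn_glue kcm3_3 (allIn_glue kcm3_4 (allIn_glue kcm3_5 (allIn_glue kcm3_6 (allIn_glue kcm3_7 (allIn_glue kcm3_8 (allIn_glue kcm3_9 (allIn_glue kcm3_10 (allIn_glue kcm3_11 (allIn_glue kcm3_12 (allIn_glue kcm3_13 (allIn_glue kcm3_14 (allIn_glue kcm3_15 (allIn_glue kcm3_16 (allIn_glue kcm3_17 (allIn_glue kcm3_18 (allIn_glue kcm3_19 (allIn_glue kcm3_20 (allIn_glue kcm3_21 (allIn_glue kcm3_22 (allIn_glue kcm3_23 (allIn_glue kcm3_24 (allIn_glue kcm3_25 (allIn_glue kcm3_26 (allIn_glue kcm3_27 (allIn_glue kcm3_28 (allIn_glue kcm3_29 (allIn_glue kcm3_30 (allIn_glue kcm3_31 (allIn_glue kcm3_32 (allIn_glue kcm3_33 (allIn_glue kcm3_34 (allIn_glue kcm3_35 (allIn_glue kcm3_36 (allIn_spec kcm3_37))))))))))))))))))))))))))))))))))))))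 c (Nat.zero_le c) hc

end

end Cfsg.Agent.Fi24Pres.Cover3
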