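import Cfsg.Agent.Lib.Fi24Pres.Cover3.Maps
import Cfsg.Agent.Lib.Fi24Pres.Cover3.Data.Dk3
import Cfsg.Agent.Lib.Fi24Pres.Cover3.Data.E5
import Cfsg.Agent.Lib.Fi24Pres.Data.D5

/-! k commutes with a generator. -/

set_option autoImplicit false
set_option maxRecDepth 100000
set_option Elab.async false

namespace Cfsg.Agent.Fi24Pres.Cover3

noncomputable section

theorem kcm5_0 : allIn (commAt key3 lift3 (odd3 dk3) (genH e5 d5 5)) 0 8192 = true := by
  decide +kernel

theorem kcm5_1 : allIn (commAt key3 lift3 (odd3 dk3) (genH e5 d5 5)) 8192 8192 = true := by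
  decide +kernel

theorem kcm5_2 : allIn (commAt key3 lift3 (odd3 dk3) (genH e5 d5 5)) 16384 8192 = true := by
  decide +kernel

theorem kcm5_3 : allIn (commAt key3 lift3 (odd3 dk3) (genH e5 d5 5)) 24576 8192 = true := by
  decide +kernel

theorem kcm5_4 : allIn (commAt key3 lift3 (odd3 dk3) (genH e5 d5 5)) 32768 8192 = true := by
  decide +kernel

theorem kcm5_5 : allIn (commAt key3 lift3 (odd3 dk3) (genH e5 d5 5)) 40960 8192 = true := by
  decide +kernel

theorem kcm5_6 : allIn (commAt key3 lift3 (odd3 dk3) (genH e5 d5 5)) 49152 8192 = true := by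
  decide +kernel

theorem kcm5_7 : allIn (commAt key3 lift3 (odd3 dk3) (genH e5 d5 5)) 57344 8192 = true := by
  decide +kernel

theorem kcm5_8 : allIn (commAt key3 lift3 (odd3 dk3) (genH e5 d5 5)) 65536 8192 = true := by
  decide +kernel

theorem kcm5_9 : allIn (commAt key3 lift3 (odd3 dk3) (genH e5 d5 5)) 73728 8192 = true := by
  decide +kernel

theorem kcm5_10 : allIn (commAt key3 lift3 (odd3 dk3) (genH e5 d5 5)) 81920 8192 = true := by
  decide +kernel

theorem kcm5_11 : allIn (commAt key3 lift3 (odd3 dk3) (genH e5 d5 5)) 90112 8192 = true := by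
  decide +kernel

theorem kcm5_12 : allIn (commAt key3 lift3 (odd3 dk3) (genH e5 d5 5)) 98304 8192 = true := by
  decide +kernel

theorem kcm5_13 : allIn (commAt key3 lift3 (odd3 dk3) (genH e5 d5 5)) 106496 8192 = true := by
  decide +kernel

theorem kcm5_14 : allIn (commAt key3 lift3 (odd3 dk3) (genH e5 d5 5)) 114688 8192 = true := by
  decide +kernel

theorem kcm5_15 : allIn (commAt key3 lift3 (odd3 dk3) (genH e5 d5 5)) 122880 8192 = true := by
  decide +kernel

theorem kcm5_16 : allIn (commAt key3 lift3 (odd3 dk3) (genH e5 d5 5)) 131072 8192 = true := by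
  decide +kernel

theorem kcm5_17 : allIn (commAt key3 lift3 (odd3 dk3) (genH e5 d5 5)) 139264 8192 = true := by
  decide +kernel

theorem kcm5_18 : allIn (commAt key3 lift3 (odd3 dk3) (genH e5 d5 5)) 147456 8192 = true := by
  decide +kernel

theorem kcm5_19 : allIn (commAt key3 lift3 (odd3 dk3) (genH e5 d5 5)) 155648 8192 = true := by
  decide +kernel

theorem kcm5_20 : allIn (commAt key3 lift3 (odd3 dk3) (genH e5 d5 5)) 163840 8192 = true := by
  decide +kernel

theorem kcm5_21 : allIn (commAt key3 lift3 (odd3 dk3) (genH e5 d5 5)) 172032 8192 = true := by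
  decide +kernel

theorem kcm5_22 : allIn (commAt key3 lift3 (odd3 dk3) (genH e5 d5 5)) 180224 8192 = true := by
  decide +kernel

theorem kcm5_23 : allIn (commAt key3 lift3 (odd3 dk3) (genH e5 d5 5)) 188416 8192 = true := by
  decide +kernel

theorem kcm5_24 : allIn (commAt key3 lift3 (odd3 dk3) (genH e5 d5 5)) 196608 8192 = true := by
  decide +kernel

theorem kcm5_25 : allIn (commAt key3 lift3 (odd3 dk3) (genH e5 d5 5)) 204800 8192 = true := by
  decide +kernel

theorem kcm5_26 : allIn (commAt key3 lift3 (odd3 dk3) (genH e5 d5 5)) 212992 8192 = true := by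
  decide +kernel

theorem kcm5_27 : allIn (commAt key3 lift3 (odd3 dk3) (genH e5 d5 5)) 221184 8192 = true := by
  decide +kernel

theorem kcm5_28 : allIn (commAt key3 lift3 (odd3 dk3) (genH e5 d5 5)) 229376 8192 = true := by
  decide +kernel

theorem kcm5_29 : allIn (commAt key3 lift3 (odd3 dk3) (genH e5 d5 5)) 237568 8192 = true := by
  decide +kernel

theorem kcm5_30 : allIn (commAt key3 lift3 (odd3 dk3) (genH e5 d5 5)) 245760 8192 = true := by
  decide +kernel

theorem kcm5_31 : allIn (commAt key3 lift3 (odd3 dk3) (genH e5 d5 5)) 253952 8192 = true := by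
  decide +kernel

theorem kcm5_32 : allIn (commAt key3 lift3 (odd3 dk3) (genH e5 d5 5)) 262144 8192 = true := by
  decide +kernel

theorem kcm5_33 : allIn (commAt key3 lift3 (odd3 dk3) (genH e5 d5 5)) 270336 8192 = true := by
  decide +kernel

theorem kcm5_34 : allIn (commAt key3 lift3 (odd3 dk3) (genH e5 d5 5)) 278528 8192 = true := by
  decide +kernel

theorem kcm5_35 : allIn (commAt key3 lift3 (odd3 dk3) (genH e5 d5 5)) 286720 8192 = true := by
  decide +kernel

theorem kcm5_36 : allIn (commAt key3 lift3 (odd3 dk3) (genH e5 d5 5)) 294912 8192 = true := by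
  decide +kernel

theorem kcm5_37 : allIn (commAt key3 lift3 (odd3 dk3) (genH e5 d5 5)) 303104 3832 = true := by
  decide +kernel

theorem kcm5 : ∀ c < 306936, (commAt key3 lift3 (odd3 dk3) (genH e5 d5 5)) c = true := fun c hc =>
  (allIn_glue kcm5_0 (allIn_glue kcm5_1 (allIn_glue kcm5_2 (allIn_glue kcm5_3 (allIn_glue kcm5_4 (allIn_glue kcm5_5 (allIn_glue kcm5_6 (allIn_glue kcm5_7 (allIn_glue kcm5_8 (allIn_glue kcm5_9 (allIn_glue kcm5_10 (allIn_glue kcm5_11 (allIn_glue kcm5_12 (allIn_glue kcm5_13 (allIn_glue kcm5_14 (allIn_glue kcm5_15 (allIn_glue kcm5_16 (allIn_glue kcm5_17 (allIn_glue kcm5_18 (allIn_glue kcm5_19 (allIn_glue kcm5_20 (allIn_glue kcm5_21 (allIn_glue kcm5_22 (allIn_glue kcm5_23 (allIn_glue kcm5_24 (allIn_glue kcm5_25 (allIn_glue kcm5_26 (allIn_glue kcm5_27 (allIn_glue kcm5_28 (allIn_glue kcm5_29 (allIn_glue kcm5_30 (allIn_glue kcm5_31 (allIn_glue kcm5_32 (allIn_glue kcm5_33 (allIn_glue kcm5_34 (allIn_glue kcm5_35 (allIn_glue kcm5_36 (allIn_spec kcm5_37))))))))))))))))))))))))))))))))))))))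 c (Nat.zero_le c) hc

end

end Cfsg.Agent.Fi24Pres.Cover3
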