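import Cfsg.Agent.Lib.Fi24Pres.Cover3.Maps
import Cfsg.Agent.Lib.Fi24Pres.Cover3.Data.Dk3
import Cfsg.Agent.Lib.Fi24Pres.Cover3.Data.E6
import Cfsg.Agent.Lib.Fi24Pres.Data.D6

/-! k commutes with a generator. -/

set_option autoImplicit false
set_option maxRecDepth 100000
set_option Elab.async false

namespace Cfsg.Agent.Fi24Pres.Cover3

noncomputable section

theorem kcm6_0 : allIn (commAt key3 lift3 (odd3 dk3) (genH e6 d6 6)) 0 8192 = true := by
  decide +kernel

theorem kcm6_1 : allIn (commAt key3 lift3 (odd3 dk3) (genH e6 d6 6)) 8192 8192 = true := by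
  decide +kernel

theorem kcm6_2 : allIn (commAt key3 lift3 (odd3 dk3) (genH e6 d6 6)) 16384 8192 = true := by
  decide +kernel

theorem kcm6_3 : allIn (commAt key3 lift3 (odd3 dk3) (genH e6 d6 6)) 24576 8192 = true := by
  decide +kernel

theorem kcm6_4 : allIn (commAt key3 lift3 (odd3 dk3) (genH e6 d6 6)) 32768 8192 = true := by
  decide +kernel

theorem kcm6_5 : allIn (commAt key3 lift3 (odd3 dk3) (genH e6 d6 6)) 40960 8192 = true := by
  decide +kernel

theorem kcm6_6 : allIn (commAt key3 lift3 (odd3 dk3) (genH e6 d6 6)) 49152 8192 = true := by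
  decide +kernel

theorem kcm6_7 : allIn (commAt key3 lift3 (odd3 dk3) (genH e6 d6 6)) 57344 8192 = true := by
  decide +kernel

theorem kcm6_8 : allIn (commAt key3 lift3 (odd3 dk3) (genH e6 d6 6)) 65536 8192 = true := by
  decide +kernel

theorem kcm6_9 : allIn (commAt key3 lift3 (odd3 dk3) (genH e6 d6 6)) 73728 8192 = true := by
  decide +kernel

theorem kcm6_10 : allIn (commAt key3 lift3 (odd3 dk3) (genH e6 d6 6)) 81920 8192 = true := by
  decide +kernel

theorem kcm6_11 : allIn (commAt key3 lift3 (odd3 dk3) (genH e6 d6 6)) 90112 8192 = true := by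
  decide +kernel

theorem kcm6_12 : allIn (commAt key3 lift3 (odd3 dk3) (genH e6 d6 6)) 98304 8192 = true := by
  decide +kernel

theorem kcm6_13 : allIn (commAt key3 lift3 (odd3 dk3) (genH e6 d6 6)) 106496 8192 = true := by
  decide +kernel

theorem kcm6_14 : allIn (commAt key3 lift3 (odd3 dk3) (genH e6 d6 6)) 114688 8192 = true := by
  decide +kernel

theorem kcm6_15 : allIn (commAt key3 lift3 (odd3 dk3) (genH e6 d6 6)) 122880 8192 = true := by
  decide +kernel

theorem kcm6_16 : allIn (commAt key3 lift3 (odd3 dk3) (genH e6 d6 6)) 131072 8192 = true := by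
  decide +kernel

theorem kcm6_17 : allIn (commAt key3 lift3 (odd3 dk3) (genH e6 d6 6)) 139264 8192 = true := by
  decide +kernel

theorem kcm6_18 : allIn (commAt key3 lift3 (odd3 dk3) (genH e6 d6 6)) 147456 8192 = true := by
  decide +kernel

theorem kcm6_19 : allIn (commAt key3 lift3 (odd3 dk3) (genH e6 d6 6)) 155648 8192 = true := by
  decide +kernel

theorem kcm6_20 : allIn (commAt key3 lift3 (odd3 dk3) (genH e6 d6 6)) 163840 8192 = true := by
  decide +kernel

theorem kcm6_21 : allIn (commAt key3 lift3 (odd3 dk3) (genH e6 d6 6)) 172032 8192 = true := by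
  decide +kernel

theorem kcm6_22 : allIn (commAt key3 lift3 (odd3 dk3) (genH e6 d6 6)) 180224 8192 = true := by
  decide +kernel

theorem kcm6_23 : allIn (commAt key3 lift3 (odd3 dk3) (genH e6 d6 6)) 188416 8192 = true := by
  decide +kernel

theorem kcm6_24 : allIn (commAt key3 lift3 (odd3 dk3) (genH e6 d6 6)) 196608 8192 = true := by
  decide +kernel

theorem kcm6_25 : allIn (commAt key3 lift3 (odd3 dk3) (genH e6 d6 6)) 204800 8192 = true := by
  decide +kernel

theorem kcm6_26 : allIn (commAt key3 lift3 (odd3 dk3) (genH e6 d6 6)) 212992 8192 = true := by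
  decide +kernel

theorem kcm6_27 : allIn (commAt key3 lift3 (odd3 dk3) (genH e6 d6 6)) 221184 8192 = true := by
  decide +kernel

theorem kcm6_28 : allIn (commAt key3 lift3 (odd3 dk3) (genH e6 d6 6)) 229376 8192 = true := by
  decide +kernel

theorem kcm6_29 : allIn (commAt key3 lift3 (odd3 dk3) (genH e6 d6 6)) 237568 8192 = true := by
  decide +kernel

theorem kcm6_30 : allIn (commAt key3 lift3 (odd3 dk3) (genH e6 d6 6)) 245760 8192 = true := by
  decide +kernel

theorem kcm6_31 : allIn (commAt key3 lift3 (odd3 dk3) (genH e6 d6 6)) 253952 8192 = true := by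
  decide +kernel

theorem kcm6_32 : allIn (commAt key3 lift3 (odd3 dk3) (genH e6 d6 6)) 262144 8192 = true := by
  decide +kernel

theorem kcm6_33 : allIn (commAt key3 lift3 (odd3 dk3) (genH e6 d6 6)) 270336 8192 = true := by
  decide +kernel

theorem kcm6_34 : allIn (commAt key3 lift3 (odd3 dk3) (genH e6 d6 6)) 278528 8192 = true := by
  decide +kernel

theorem kcm6_35 : allIn (commAt key3 lift3 (odd3 dk3) (genH e6 d6 6)) 286720 8192 = true := by
  decide +kernel

theorem kcm6_36 : allIn (commAt key3 lift3 (odd3 dk3) (genH e6 d6 6)) 294912 8192 = true := by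
  decide +kernel

theorem kcm6_37 : allIn (commAt key3 lift3 (odd3 dk3) (genH e6 d6 6)) 303104 3832 = true := by
  decide +kernel

theorem kcm6 : ∀ c < 306936, (commAt key3 lift3 (odd3 dk3) (genH e6 d6 6)) c = true := fun c hc =>
  (allIn_glue kcm6_0 (allIn_glue kcm6_1 (allIn_glue kcm6_2 (allIn_glue kcm6_3 (allIn_glue kcm6_4 (allIn_glue kcm6_5 (allIn_glue kcm6_6 (allIn_glue kcm6_7 (allIn_glue kcm6_8 (allIn_glue kcm6_9 (allIn_glue kcm6_10 (allIn_glue kcm6_11 (allIn_glue kcm6_12 (allIn_glue kcm6_13 (allIn_glue kcm6_14 (allIn_glue kcm6_15 (allIn_glue kcm6_16 (allIn_glue kcm6_17 (allIn_glue kcm6_18 (allIn_glue kcm6_19 (allIn_glue kcm6_20 (allIn_glue kcm6_21 (allIn_glue kcm6_22 (allIn_glue kcm6_23 (allIn_glue kcm6_24 (allIn_glue kcm6_25 (allIn_glue kcm6_26 (allIn_glue kcm6_27 (allIn_glue kcm6_28 (allIn_glue kcm6_29 (allIn_glue kcm6_30 (allIn_glue kcm6_31 (allIn_glue kcm6_32 (allIn_glue kcm6_33 (allIn_glue kcm6_34 (allIn_glue kcm6_35 (allIn_glue kcm6_36 (allIn_spec kcm6_37))))))))))))))))))))))))))))))))))))))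 c (Nat.zero_le c) hc

end

end Cfsg.Agent.Fi24Pres.Cover3
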