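import Cfsg.Agent.Lib.Fi24Pres.Cover3.Maps
import Cfsg.Agent.Lib.Fi24Pres.Cover3.Data.Dk3
import Cfsg.Agent.Lib.Fi24Pres.Cover3.Data.E7
import Cfsg.Agent.Lib.Fi24Pres.Data.D7

/-! k commutes with a generator. -/

set_option autoImplicit false
set_option maxRecDepth 100000
set_option Elab.async false

namespace Cfsg.Agent.Fi24Pres.Cover3

noncomputable section

theorem kcm7_0 : allIn (commAt key3 lift3 (odd3 dk3) (genH e7 d7 7)) 0 8192 = true := by
  decide +kernel

theorem kcm7_1 : allIn (commAt key3 lift3 (odd3 dk3) (genH e7 d7 7)) 8192 8192 = true := by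
  decide +kernel

theorem kcm7_2 : allIn (commAt key3 lift3 (odd3 dk3) (genH e7 d7 7)) 16384 8192 = true := by
  decide +kernel

theorem kcm7_3 : allIn (commAt key3 lift3 (odd3 dk3) (genH e7 d7 7)) 24576 8192 = true := by
  decide +kernel

theorem kcm7_4 : allIn (commAt key3 lift3 (odd3 dk3) (genH e7 d7 7)) 32768 8192 = true := by
  decide +kernel

theorem kcm7_5 : allIn (commAt key3 lift3 (odd3 dk3) (genH e7 d7 7)) 40960 8192 = true := by
  decide +kernel

theorem kcm7_6 : allIn (commAt key3 lift3 (odd3 dk3) (genH e7 d7 7)) 49152 8192 = true := by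
  decide +kernel

theorem kcm7_7 : allIn (commAt key3 lift3 (odd3 dk3) (genH e7 d7 7)) 57344 8192 = true := by
  decide +kernel

theorem kcm7_8 : allIn (commAt key3 lift3 (odd3 dk3) (genH e7 d7 7)) 65536 8192 = true := by
  decide +kernel

theorem kcm7_9 : allIn (commAt key3 lift3 (odd3 dk3) (genH e7 d7 7)) 73728 8192 = true := by
  decide +kernel

theorem kcm7_10 : allIn (commAt key3 lift3 (odd3 dk3) (genH e7 d7 7)) 81920 8192 = true := by
  decide +kernel

theorem kcm7_11 : allIn (commAt key3 lift3 (odd3 dk3) (genH e7 d7 7)) 90112 8192 = true := by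
  decide +kernel

theorem kcm7_12 : allIn (commAt key3 lift3 (odd3 dk3) (genH e7 d7 7)) 98304 8192 = true := by
  decide +kernel

theorem kcm7_13 : allIn (commAt key3 lift3 (odd3 dk3) (genH e7 d7 7)) 106496 8192 = true := by
  decide +kernel

theorem kcm7_14 : allIn (commAt key3 lift3 (odd3 dk3) (genH e7 d7 7)) 114688 8192 = true := by
  decide +kernel

theorem kcm7_15 : allIn (commAt key3 lift3 (odd3 dk3) (genH e7 d7 7)) 122880 8192 = true := by
  decide +kernel

theorem kcm7_16 : allIn (commAt key3 lift3 (odd3 dk3) (genH e7 d7 7)) 131072 8192 = true := by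
  decide +kernel

theorem kcm7_17 : allIn (commAt key3 lift3 (odd3 dk3) (genH e7 d7 7)) 139264 8192 = true := by
  decide +kernel

theorem kcm7_18 : allIn (commAt key3 lift3 (odd3 dk3) (genH e7 d7 7)) 147456 8192 = true := by
  decide +kernel

theorem kcm7_19 : allIn (commAt key3 lift3 (odd3 dk3) (genH e7 d7 7)) 155648 8192 = true := by
  decide +kernel

theorem kcm7_20 : allIn (commAt key3 lift3 (odd3 dk3) (genH e7 d7 7)) 163840 8192 = true := by
  decide +kernel

theorem kcm7_21 : allIn (commAt key3 lift3 (odd3 dk3) (genH e7 d7 7)) 172032 8192 = true := by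
  decide +kernel

theorem kcm7_22 : allIn (commAt key3 lift3 (odd3 dk3) (genH e7 d7 7)) 180224 8192 = true := by
  decide +kernel

theorem kcm7_23 : allIn (commAt key3 lift3 (odd3 dk3) (genH e7 d7 7)) 188416 8192 = true := by
  decide +kernel

theorem kcm7_24 : allIn (commAt key3 lift3 (odd3 dk3) (genH e7 d7 7)) 196608 8192 = true := by
  decide +kernel

theorem kcm7_25 : allIn (commAt key3 lift3 (odd3 dk3) (genH e7 d7 7)) 204800 8192 = true := by
  decide +kernel

theorem kcm7_26 : allIn (commAt key3 lift3 (odd3 dk3) (genH e7 d7 7)) 212992 8192 = true := by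
  decide +kernel

theorem kcm7_27 : allIn (commAt key3 lift3 (odd3 dk3) (genH e7 d7 7)) 221184 8192 = true := by
  decide +kernel

theorem kcm7_28 : allIn (commAt key3 lift3 (odd3 dk3) (genH e7 d7 7)) 229376 8192 = true := by
  decide +kernel

theorem kcm7_29 : allIn (commAt key3 lift3 (odd3 dk3) (genH e7 d7 7)) 237568 8192 = true := by
  decide +kernel

theorem kcm7_30 : allIn (commAt key3 lift3 (odd3 dk3) (genH e7 d7 7)) 245760 8192 = true := by
  decide +kernel

theorem kcm7_31 : allIn (commAt key3 lift3 (odd3 dk3) (genH e7 d7 7)) 253952 8192 = true := by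
  decide +kernel

theorem kcm7_32 : allIn (commAt key3 lift3 (odd3 dk3) (genH e7 d7 7)) 262144 8192 = true := by
  decide +kernel

theorem kcm7_33 : allIn (commAt key3 lift3 (odd3 dk3) (genH e7 d7 7)) 270336 8192 = true := by
  decide +kernel

theorem kcm7_34 : allIn (commAt key3 lift3 (odd3 dk3) (genH e7 d7 7)) 278528 8192 = true := by
  decide +kernel

theorem kcm7_35 : allIn (commAt key3 lift3 (odd3 dk3) (genH e7 d7 7)) 286720 8192 = true := by
  decide +kernel

theorem kcm7_36 : allIn (commAt key3 lift3 (odd3 dk3) (genH e7 d7 7)) 294912 8192 = true := by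
  decide +kernel

theorem kcm7_37 : allIn (commAt key3 lift3 (odd3 dk3) (genH e7 d7 7)) 303104 3832 = true := by
  decide +kernel

theorem kcm7 : ∀ c < 306936, (commAt key3 lift3 (odd3 dk3) (genH e7 d7 7)) c = true := fun c hc =>
  (allIn_glue kcm7_0 (allIn_glue kcm7_1 (allIn_glue kcm7_2 (allIn_glue kcm7_3 (allIn_glue kcm7_4 (allIn_glue kcm7_5 (allIn_glue kcm7_6 (allIn_glue kcm7_7 (allIn_glue kcm7_8 (allIn_glue kcm7_9 (allIn_glue kcm7_10 (allIn_glue kcm7_11 (allIn_glue kcm7_12 (allIn_glue kcm7_13 (allIn_glue kcm7_14 (allIn_glue kcm7_15 (allIn_glue kcm7_16 (allIn_glue kcm7_17 (allIn_glue kcm7_18 (allIn_glue kcm7_19 (allIn_glue kcm7_20 (allIn_glue kcm7_21 (allIn_glue kcm7_22 (allIn_glue kcm7_23 (allIn_glue kcm7_24 (allIn_glue kcm7_25 (allIn_glue kcm7_26 (allIn_glue kcm7_27 (allIn_glue kcm7_28 (allIn_glue kcm7_29 (allIn_glue kcm7_30 (allIn_glue kcm7_31 (allIn_glue kcm7_32 (allIn_glue kcm7_33 (allIn_glue kcm7_34 (allIn_glue kcm7_35 (allIn_glue kcm7_36 (allIn_spec kcm7_37))))))))))))))))))))))))))))))))))))))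 c (Nat.zero_le c) hc

end

end Cfsg.Agent.Fi24Pres.Cover3
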