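import Cfsg.Agent.Lib.Fi24Pres.Cover3.Maps
import Cfsg.Agent.Lib.Fi24Pres.Cover3.Data.Dk3

/-! The involution k. -/

set_option autoImplicit false
set_option maxRecDepth 100000
set_option Elab.async false

namespace Cfsg.Agent.Fi24Pres.Cover3

noncomputable section

theorem invck_0 : allIn (invAt lift3 (odd3 dk3) (3 * 306936)) 0 8192 = true := by
  decide +kernel

theorem invck_1 : allIn (invAt lift3 (odd3 dk3) (3 * 306936)) 8192 8192 = true := by
  decide +kernel

theorem invck_2 : allIn (invAt lift3 (odd3 dk3) (3 * 306936)) 16384 8192 = true := by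
  decide +kernel

theorem invck_3 : allIn (invAt lift3 (odd3 dk3) (3 * 306936)) 24576 8192 = true := by
  decide +kernel

theorem invck_4 : allIn (invAt lift3 (odd3 dk3) (3 * 306936)) 32768 8192 = true := by
  decide +kernel

theorem invck_5 : allIn (invAt lift3 (odd3 dk3) (3 * 306936)) 40960 8192 = true := by
  decide +kernel

theorem invck_6 : allIn (invAt lift3 (odd3 dk3) (3 * 306936)) 49152 8192 = true := by
  decide +kernel

theorem invck_7 : allIn (invAt lift3 (odd3 dk3) (3 * 306936)) 57344 8192 = true := by
  decide +kernel

theorem invck_8 : allIn (invAt lift3 (odd3 dk3) (3 * 306936)) 65536 8192 = true := by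
  decide +kernel

theorem invck_9 : allIn (invAt lift3 (odd3 dk3) (3 * 306936)) 73728 8192 = true := by
  decide +kernel

theorem invck_10 : allIn (invAt lift3 (odd3 dk3) (3 * 306936)) 81920 8192 = true := by
  decide +kernel

theorem invck_11 : allIn (invAt lift3 (odd3 dk3) (3 * 306936)) 90112 8192 = true := by
  decide +kernel

theorem invck_12 : allIn (invAt lift3 (odd3 dk3) (3 * 306936)) 98304 8192 = true := by
  decide +kernel

theorem invck_13 : allIn (invAt lift3 (odd3 dk3) (3 * 306936)) 106496 8192 = true := by
  decide +kernel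

theorem invck_14 : allIn (invAt lift3 (odd3 dk3) (3 * 306936)) 114688 8192 = true := by
  decide +kernel

theorem invck_15 : allIn (invAt lift3 (odd3 dk3) (3 * 306936)) 122880 8192 = true := by
  decide +kernel

theorem invck_16 : allIn (invAt lift3 (odd3 dk3) (3 * 306936)) 131072 8192 = true := by
  decide +kernel

theorem invck_17 : allIn (invAt lift3 (odd3 dk3) (3 * 306936)) 139264 8192 = true := by
  decide +kernel

theorem invck_18 : allIn (invAt lift3 (odd3 dk3) (3 * 306936)) 147456 8192 = true := by
  decide +kernel

theorem invck_19 : allIn (invAt lift3 (odd3 dk3) (3 * 306936)) 155648 8192 = true := by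
  decide +kernel

theorem invck_20 : allIn (invAt lift3 (odd3 dk3) (3 * 306936)) 163840 8192 = true := by
  decide +kernel

theorem invck_21 : allIn (invAt lift3 (odd3 dk3) (3 * 306936)) 172032 8192 = true := by
  decide +kernel

theorem invck_22 : allIn (invAt lift3 (odd3 dk3) (3 * 306936)) 180224 8192 = true := by
  decide +kernel

theorem invck_23 : allIn (invAt lift3 (odd3 dk3) (3 * 306936)) 188416 8192 = true := by
  decide +kernel

theorem invck_24 : allIn (invAt lift3 (odd3 dk3) (3 * 306936)) 196608 8192 = true := by
  decide +kernel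

theorem invck_25 : allIn (invAt lift3 (odd3 dk3) (3 * 306936)) 204800 8192 = true := by
  decide +kernel

theorem invck_26 : allIn (invAt lift3 (odd3 dk3) (3 * 306936)) 212992 8192 = true := by
  decide +kernel

theorem invck_27 : allIn (invAt lift3 (odd3 dk3) (3 * 306936)) 221184 8192 = true := by
  decide +kernel

theorem invck_28 : allIn (invAt lift3 (odd3 dk3) (3 * 306936)) 229376 8192 = true := by
  decide +kernel

theorem invck_29 : allIn (invAt lift3 (odd3 dk3) (3 * 306936)) 237568 8192 = true := by
  decide +kernel

theorem invck_30 : allIn (invAt lift3 (odd3 dk3) (3 * 306936)) 245760 8192 = true := by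
  decide +kernel

theorem invck_31 : allIn (invAt lift3 (odd3 dk3) (3 * 306936)) 253952 8192 = true := by
  decide +kernel

theorem invck_32 : allIn (invAt lift3 (odd3 dk3) (3 * 306936)) 262144 8192 = true := by
  decide +kernel

theorem invck_33 : allIn (invAt lift3 (odd3 dk3) (3 * 306936)) 270336 8192 = true := by
  decide +kernel

theorem invck_34 : allIn (invAt lift3 (odd3 dk3) (3 * 306936)) 278528 8192 = true := by
  decide +kernel

theorem invck_35 : allIn (invAt lift3 (odd3 dk3) (3 * 306936)) 286720 8192 = true := by
  decide +kernel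

theorem invck_36 : allIn (invAt lift3 (odd3 dk3) (3 * 306936)) 294912 8192 = true := by
  decide +kernel

theorem invck_37 : allIn (invAt lift3 (odd3 dk3) (3 * 306936)) 303104 3832 = true := by
  decide +kernel

theorem invck : ∀ c < 306936, (invAt lift3 (odd3 dk3) (3 * 306936)) c = true := fun c hc =>
  (allIn_glue invck_0 (allIn_glue invck_1 (allIn_glue invck_2 (allIn_glue invck_3 (allIn_glue invck_4 (allIn_glue invck_5 (allIn_glue invck_6 (allIn_glue invck_7 (allIn_glue invck_8 (allIn_glue invck_9 (allIn_glue invck_10 (allIn_glue invck_11 (allIn_glue invck_12 (allIn_glue invck_13 (allIn_glue invck_14 (allIn_glue invck_15 (allIn_glue invck_16 (allIn_glue invck_17 (allIn_glue invck_18 (allIn_glue invck_19 (allIn_glue invck_20 (allIn_glue invck_21 (allIn_glue invck_22 (allIn_glue invck_23 (allIn_glue invck_24 (allIn_glue invck_25 (allIn_glue invck_26 (allIn_glue invck_27 (allIn_glue invck_28 (allIn_glue invck_29 (allIn_glue invck_30 (allIn_glue invck_31 (allIn_glue invck_32 (allIn_glue invck_33 (allIn_glue invck_34 (allIn_glue invck_35 (allIn_glue invck_36 (allIn_spec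 invck_37)))))))))))))))))))))))))))))))))))))) c (Nat.zero_le c) hc

theorem invk : Inv (odd3 dk3) (3 * 306936) := inv3_of_checks (tw_odd3 _) invck

end

end Cfsg.Agent.Fi24Pres.Cover3
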