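import Cfsg.Agent.Lib.Fi24Pres.Cover3.Maps
import Cfsg.Agent.Lib.Fi24Pres.Cover3.Data.Qz3
import Cfsg.Agent.Lib.Fi24Pres.Cover3.Data.Dk3
import Cfsg.Agent.Lib.Fi24Pres.Cover3.Data.E0
import Cfsg.Agent.Lib.Fi24Pres.Cover3.Data.E1
import Cfsg.Agent.Lib.Fi24Pres.Cover3.Data.E2
import Cfsg.Agent.Lib.Fi24Pres.Cover3.Data.E3
import Cfsg.Agent.Lib.Fi24Pres.Cover3.Data.E4
import Cfsg.Agent.Lib.Fi24Pres.Cover3.Data.E5
import Cfsg.Agent.Lib.Fi24Pres.Cover3.Data.E6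
import Cfsg.Agent.Lib.Fi24Pres.Cover3.Data.E7
import Cfsg.Agent.Lib.Fi24Pres.Cover3.Data.E8
import Cfsg.Agent.Lib.Fi24Pres.Cover3.Data.E9
import Cfsg.Agent.Lib.Fi24Pres.Data.D0
import Cfsg.Agent.Lib.Fi24Pres.Data.D1
import Cfsg.Agent.Lib.Fi24Pres.Data.D2
import Cfsg.Agent.Lib.Fi24Pres.Data.D3
import Cfsg.Agent.Lib.Fi24Pres.Data.D4
import Cfsg.Agent.Lib.Fi24Pres.Data.D5
import Cfsg.Agent.Lib.Fi24Pres.Data.D6
import Cfsg.Agent.Lib.Fi24Pres.Data.D7
import Cfsg.Agent.Lib.Fi24Pres.Data.D8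
import Cfsg.Agent.Lib.Fi24Pres.Data.D9

/-! The word of length fourteen, one part of the points. -/

set_option autoImplicit false
set_option maxRecDepth 100000
set_option Elab.async false

namespace Cfsg.Agent.Fi24Pres.Cover3

noncomputable section

theorem qz_def0_0 : allIn (fun c => Nat.beq (T20.get qz3 c) (comp [genH e3 d3 3, genH e2 d2 2, genH e1 d1 1, genH e0 d0 0, odd3 dk3, lift0 actL, genH e3 d3 3, genH e4 d4 4, genH e5 d5 5, genH e6 d6 6, genH e9 d9 9, genH e3 d3 3, genH e7 d7 7, genH e8 d8 8] (lift3 c))) 0 8192 = true := by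
  decide +kernel

theorem qz_def0_1 : allIn (fun c => Nat.beq (T20.get qz3 c) (comp [genH e3 d3 3, genH e2 d2 2, genH e1 d1 1, genH e0 d0 0, odd3 dk3, lift0 actL, genH e3 d3 3, genH e4 d4 4, genH e5 d5 5, genH e6 d6 6, genH e9 d9 9, genH e3 d3 3, genH e7 d7 7, genH e8 d8 8] (lift3 c))) 8192 8192 = true := by
  decide +kernel

theorem qz_def0_2 : allIn (fun c => Nat.beq (T20.get qz3 c) (comp [genH e3 d3 3, genH e2 d2 2, genH e1 d1 1, genH e0 d0 0, odd3 dk3, lift0 actL, genH e3 d3 3, genH e4 d4 4, genH e5 d5 5, genH e6 d6 6, genH e9 d9 9, genH e3 d3 3, genH e7 d7 7, genH e8 d8 8] (lift3 c))) 16384 8192 = true := by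
  decide +kernel

theorem qz_def0_3 : allIn (fun c => Nat.beq (T20.get qz3 c) (comp [genH e3 d3 3, genH e2 d2 2, genH e1 d1 1, genH e0 d0 0, odd3 dk3, lift0 actL, genH e3 d3 3, genH e4 d4 4, genH e5 d5 5, genH e6 d6 6, genH e9 d9 9, genH e3 d3 3, genH e7 d7 7, genH e8 d8 8] (lift3 c))) 24576 8192 = true := by
  decide +kernel

theorem qz_def0_4 : allIn (fun c => Nat.beq (T20.get qz3 c) (comp [genH e3 d3 3, genH e2 d2 2, genH e1 d1 1, genH e0 d0 0, odd3 dk3, lift0 actL, genH e3 d3 3, genH e4 d4 4, genH e5 d5 5, genH e6 d6 6, genH e9 d9 9, genH e3 d3 3, genH e7 d7 7, genH e8 d8 8] (lift3 c))) 32768 8192 = true := by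
  decide +kernel

theorem qz_def0_5 : allIn (fun c => Nat.beq (T20.get qz3 c) (comp [genH e3 d3 3, genH e2 d2 2, genH e1 d1 1, genH e0 d0 0, odd3 dk3, lift0 actL, genH e3 d3 3, genH e4 d4 4, genH e5 d5 5, genH e6 d6 6, genH e9 d9 9, genH e3 d3 3, genH e7 d7 7, genH e8 d8 8] (lift3 c))) 40960 8192 = true := by
  decide +kernel

theorem qz_def0_6 : allIn (fun c => Nat.beq (T20.get qz3 c) (comp [genH e3 d3 3, genH e2 d2 2, genH e1 d1 1, genH e0 d0 0, odd3 dk3, lift0 actL, genH e3 d3 3, genH e4 d4 4, genH e5 d5 5, genH e6 d6 6, genH e9 d9 9, genH e3 d3 3, genH e7 d7 7, genH e8 d8 8] (lift3 c))) 49152 8192 = true := by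
  decide +kernel

theorem qz_def0_7 : allIn (fun c => Nat.beq (T20.get qz3 c) (comp [genH e3 d3 3, genH e2 d2 2, genH e1 d1 1, genH e0 d0 0, odd3 dk3, lift0 actL, genH e3 d3 3, genH e4 d4 4, genH e5 d5 5, genH e6 d6 6, genH e9 d9 9, genH e3 d3 3, genH e7 d7 7, genH e8 d8 8] (lift3 c))) 57344 8192 = true := by
  decide +kernel

theorem qz_def0_8 : allIn (fun c => Nat.beq (T20.get qz3 c) (comp [genH e3 d3 3, genH e2 d2 2, genH e1 d1 1, genH e0 d0 0, odd3 dk3, lift0 actL, genH e3 d3 3, genH e4 d4 4, genH e5 d5 5, genH e6 d6 6, genH e9 d9 9, genH e3 d3 3, genH e7 d7 7, genH e8 d8 8] (lift3 c))) 65536 8192 = true := by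
  decide +kernel

theorem qz_def0_9 : allIn (fun c => Nat.beq (T20.get qz3 c) (comp [genH e3 d3 3, genH e2 d2 2, genH e1 d1 1, genH e0 d0 0, odd3 dk3, lift0 actL, genH e3 d3 3, genH e4 d4 4, genH e5 d5 5, genH e6 d6 6, genH e9 d9 9, genH e3 d3 3, genH e7 d7 7, genH e8 d8 8] (lift3 c))) 73728 8192 = true := by
  decide +kernel

theorem qz_def0_10 : allIn (fun c => Nat.beq (T20.get qz3 c) (comp [genH e3 d3 3, genH e2 d2 2, genH e1 d1 1, genH e0 d0 0, odd3 dk3, lift0 actL, genH e3 d3 3, genH e4 d4 4, genH e5 d5 5, genH e6 d6 6, genH e9 d9 9, genH e3 d3 3, genH e7 d7 7, genH e8 d8 8] (lift3 c))) 81920 8192 = true := by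
  decide +kernel

theorem qz_def0_11 : allIn (fun c => Nat.beq (T20.get qz3 c) (comp [genH e3 d3 3, genH e2 d2 2, genH e1 d1 1, genH e0 d0 0, odd3 dk3, lift0 actL, genH e3 d3 3, genH e4 d4 4, genH e5 d5 5, genH e6 d6 6, genH e9 d9 9, genH e3 d3 3, genH e7 d7 7, genH e8 d8 8] (lift3 c))) 90112 8192 = true := by
  decide +kernel

theorem qz_def0_12 : allIn (fun c => Nat.beq (T20.get qz3 c) (comp [genH e3 d3 3, genH e2 d2 2, genH e1 d1 1, genH e0 d0 0, odd3 dk3, lift0 actL, genH e3 d3 3, genH e4 d4 4, genH e5 d5 5, genH e6 d6 6, genH e9 d9 9, genH e3 d3 3, genH e7 d7 7, genH e8 d8 8] (lift3 c))) 98304 8192 = true := by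
  decide +kernel

theorem qz_def0 : ∀ c, 0 ≤ c → c < 106496 → (fun c => Nat.beq (T20.get qz3 c) (comp [genH e3 d3 3, genH e2 d2 2, genH e1 d1 1, genH e0 d0 0, odd3 dk3, lift0 actL, genH e3 d3 3, genH e4 d4 4, genH e5 d5 5, genH e6 d6 6, genH e9 d9 9, genH e3 d3 3, genH e7 d7 7, genH e8 d8 8] (lift3 c))) c = true :=
  allIn_glue qz_def0_0 (allIn_glue qz_def0_1 (allIn_glue qz_def0_2 (allIn_glue qz_def0_3 (allIn_glue qz_def0_4 (allIn_glue qz_def0_5 (allIn_glue qz_def0_6 (allIn_glue qz_def0_7 (allIn_glue qz_def0_8 (allIn_glue qz_def0_9 (allIn_glue qz_def0_10 (allIn_glue qz_def0_11 (allIn_spec qz_def0_12))))))))))))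

end

end Cfsg.Agent.Fi24Pres.Cover3
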