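import Cfsg.Agent.Lib.Fi24Pres.Cover3.Maps
import Cfsg.Agent.Lib.Fi24Pres.Cover3.Data.Qz3
import Cfsg.Agent.Lib.Fi24Pres.Cover3.Data.Dk3
import Cfsg.Agent.Lib.Fi24Pres.Cover3.Data.E0
import Cfsg.Agent.Lib.Fi24Pres.Cover3.Data.E1
import Cfsg.Agent.Lib.Fi24Pres.Cover3.Data.E2
import Cfsg.Agent.Lib.Fi24Pres.Cover3.Data.E3
import Cfsg.Agent.Lib.Fi24Pres.Cover3.Data.E4
import Cfsg.Agent.Lib.Fi24Pres.Cover3.Data.E5
import Cfsg.Agent.Lib.Fi24Pres.Cover3.Data.E6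
import Cfsg.Agent.Lib.Fi24Pres.Cover3.Data.E7
import Cfsg.Agent.Lib.Fi24Pres.Cover3.Data.E8
import Cfsg.Agent.Lib.Fi24Pres.Cover3.Data.E9
import Cfsg.Agent.Lib.Fi24Pres.Data.D0
import Cfsg.Agent.Lib.Fi24Pres.Data.D1
import Cfsg.Agent.Lib.Fi24Pres.Data.D2
import Cfsg.Agent.Lib.Fi24Pres.Data.D3
import Cfsg.Agent.Lib.Fi24Pres.Data.D4
import Cfsg.Agent.Lib.Fi24Pres.Data.D5
import Cfsg.Agent.Lib.Fi24Pres.Data.D6
import Cfsg.Agent.Lib.Fi24Pres.Data.D7
import Cfsg.Agent.Lib.Fi24Pres.Data.D8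
import Cfsg.Agent.Lib.Fi24Pres.Data.D9

/-! The word of length fourteen, one part of the points. -/

set_option autoImplicit false
set_option maxRecDepth 100000
set_option Elab.async false

namespace Cfsg.Agent.Fi24Pres.Cover3

noncomputable section

theorem qz_def1_0 : allIn (fun c => Nat.beq (T20.get qz3 c) (comp [genH e3 d3 3, genH e2 d2 2, genH e1 d1 1, genH e0 d0 0, odd3 dk3, lift0 actL, genH e3 d3 3, genH e4 d4 4, genH e5 d5 5, genH e6 d6 6, genH e9 d9 9, genH e3 d3 3, genH e7 d7 7, genH e8 d8 8] (lift3 c))) 106496 8192 = true := by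
  decide +kernel

theorem qz_def1_1 : allIn (fun c => Nat.beq (T20.get qz3 c) (comp [genH e3 d3 3, genH e2 d2 2, genH e1 d1 1, genH e0 d0 0, odd3 dk3, lift0 actL, genH e3 d3 3, genH e4 d4 4, genH e5 d5 5, genH e6 d6 6, genH e9 d9 9, genH e3 d3 3, genH e7 d7 7, genH e8 d8 8] (lift3 c))) 114688 8192 = true := by
  decide +kernel

theorem qz_def1_2 : allIn (fun c => Nat.beq (T20.get qz3 c) (comp [genH e3 d3 3, genH e2 d2 2, genH e1 d1 1, genH e0 d0 0, odd3 dk3, lift0 actL, genH e3 d3 3, genH e4 d4 4, genH e5 d5 5, genH e6 d6 6, genH e9 d9 9, genH e3 d3 3, genH e7 d7 7, genH e8 d8 8] (lift3 c))) 122880 8192 = true := by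
  decide +kernel

theorem qz_def1_3 : allIn (fun c => Nat.beq (T20.get qz3 c) (comp [genH e3 d3 3, genH e2 d2 2, genH e1 d1 1, genH e0 d0 0, odd3 dk3, lift0 actL, genH e3 d3 3, genH e4 d4 4, genH e5 d5 5, genH e6 d6 6, genH e9 d9 9, genH e3 d3 3, genH e7 d7 7, genH e8 d8 8] (lift3 c))) 131072 8192 = true := by
  decide +kernel

theorem qz_def1_4 : allIn (fun c => Nat.beq (T20.get qz3 c) (comp [genH e3 d3 3, genH e2 d2 2, genH e1 d1 1, genH e0 d0 0, odd3 dk3, lift0 actL, genH e3 d3 3, genH e4 d4 4, genH e5 d5 5, genH e6 d6 6, genH e9 d9 9, genH e3 d3 3, genH e7 d7 7, genH e8 d8 8] (lift3 c))) 139264 8192 = true := by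
  decide +kernel

theorem qz_def1_5 : allIn (fun c => Nat.beq (T20.get qz3 c) (comp [genH e3 d3 3, genH e2 d2 2, genH e1 d1 1, genH e0 d0 0, odd3 dk3, lift0 actL, genH e3 d3 3, genH e4 d4 4, genH e5 d5 5, genH e6 d6 6, genH e9 d9 9, genH e3 d3 3, genH e7 d7 7, genH e8 d8 8] (lift3 c))) 147456 8192 = true := by
  decide +kernel

theorem qz_def1_6 : allIn (fun c => Nat.beq (T20.get qz3 c) (comp [genH e3 d3 3, genH e2 d2 2, genH e1 d1 1, genH e0 d0 0, odd3 dk3, lift0 actL, genH e3 d3 3, genH e4 d4 4, genH e5 d5 5, genH e6 d6 6, genH e9 d9 9, genH e3 d3 3, genH e7 d7 7, genH e8 d8 8] (lift3 c))) 155648 8192 = true := by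
  decide +kernel

theorem qz_def1_7 : allIn (fun c => Nat.beq (T20.get qz3 c) (comp [genH e3 d3 3, genH e2 d2 2, genH e1 d1 1, genH e0 d0 0, odd3 dk3, lift0 actL, genH e3 d3 3, genH e4 d4 4, genH e5 d5 5, genH e6 d6 6, genH e9 d9 9, genH e3 d3 3, genH e7 d7 7, genH e8 d8 8] (lift3 c))) 163840 8192 = true := by
  decide +kernel

theorem qz_def1_8 : allIn (fun c => Nat.beq (T20.get qz3 c) (comp [genH e3 d3 3, genH e2 d2 2, genH e1 d1 1, genH e0 d0 0, odd3 dk3, lift0 actL, genH e3 d3 3, genH e4 d4 4, genH e5 d5 5, genH e6 d6 6, genH e9 d9 9, genH e3 d3 3, genH e7 d7 7, genH e8 d8 8] (lift3 c))) 172032 8192 = true := by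
  decide +kernel

theorem qz_def1_9 : allIn (fun c => Nat.beq (T20.get qz3 c) (comp [genH e3 d3 3, genH e2 d2 2, genH e1 d1 1, genH e0 d0 0, odd3 dk3, lift0 actL, genH e3 d3 3, genH e4 d4 4, genH e5 d5 5, genH e6 d6 6, genH e9 d9 9, genH e3 d3 3, genH e7 d7 7, genH e8 d8 8] (lift3 c))) 180224 8192 = true := by
  decide +kernel

theorem qz_def1_10 : allIn (fun c => Nat.beq (T20.get qz3 c) (comp [genH e3 d3 3, genH e2 d2 2, genH e1 d1 1, genH e0 d0 0, odd3 dk3, lift0 actL, genH e3 d3 3, genH e4 d4 4, genH e5 d5 5, genH e6 d6 6, genH e9 d9 9, genH e3 d3 3, genH e7 d7 7, genH e8 d8 8] (lift3 c))) 188416 8192 = true := by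
  decide +kernel

theorem qz_def1_11 : allIn (fun c => Nat.beq (T20.get qz3 c) (comp [genH e3 d3 3, genH e2 d2 2, genH e1 d1 1, genH e0 d0 0, odd3 dk3, lift0 actL, genH e3 d3 3, genH e4 d4 4, genH e5 d5 5, genH e6 d6 6, genH e9 d9 9, genH e3 d3 3, genH e7 d7 7, genH e8 d8 8] (lift3 c))) 196608 8192 = true := by
  decide +kernel

theorem qz_def1_12 : allIn (fun c => Nat.beq (T20.get qz3 c) (comp [genH e3 d3 3, genH e2 d2 2, genH e1 d1 1, genH e0 d0 0, odd3 dk3, lift0 actL, genH e3 d3 3, genH e4 d4 4, genH e5 d5 5, genH e6 d6 6, genH e9 d9 9, genH e3 d3 3, genH e7 d7 7, genH e8 d8 8] (lift3 c))) 204800 8192 = true := by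
  decide +kernel

theorem qz_def1 : ∀ c, 106496 ≤ c → c < 212992 → (fun c => Nat.beq (T20.get qz3 c) (comp [genH e3 d3 3, genH e2 d2 2, genH e1 d1 1, genH e0 d0 0, odd3 dk3, lift0 actL, genH e3 d3 3, genH e4 d4 4, genH e5 d5 5, genH e6 d6 6, genH e9 d9 9, genH e3 d3 3, genH e7 d7 7, genH e8 d8 8] (lift3 c))) c = true :=
  allIn_glue qz_def1_0 (allIn_glue qz_def1_1 (allIn_glue qz_def1_2 (allIn_glue qz_def1_3 (allIn_glue qz_def1_4 (allIn_glue qz_def1_5 (allIn_glue qz_def1_6 (allIn_glue qz_def1_7 (allIn_glue qz_def1_8 (allIn_glue qz_def1_9 (allIn_glue qz_def1_10 (allIn_glue qz_def1_11 (allIn_spec qz_def1_12))))))))))))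

end

end Cfsg.Agent.Fi24Pres.Cover3
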