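import Cfsg.Agent.Lib.Fi24Pres.Cover3.Maps
import Cfsg.Agent.Lib.Fi24Pres.Cover3.Data.Qz3
import Cfsg.Agent.Lib.Fi24Pres.Cover3.Data.Dk3
import Cfsg.Agent.Lib.Fi24Pres.Cover3.Data.E0
import Cfsg.Agent.Lib.Fi24Pres.Cover3.Data.E1
import Cfsg.Agent.Lib.Fi24Pres.Cover3.Data.E2
import Cfsg.Agent.Lib.Fi24Pres.Cover3.Data.E3
import Cfsg.Agent.Lib.Fi24Pres.Cover3.Data.E4
import Cfsg.Agent.Lib.Fi24Pres.Cover3.Data.E5
import Cfsg.Agent.Lib.Fi24Pres.Cover3.Data.E6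
import Cfsg.Agent.Lib.Fi24Pres.Cover3.Data.E7
import Cfsg.Agent.Lib.Fi24Pres.Cover3.Data.E8
import Cfsg.Agent.Lib.Fi24Pres.Cover3.Data.E9
import Cfsg.Agent.Lib.Fi24Pres.Data.D0
import Cfsg.Agent.Lib.Fi24Pres.Data.D1
import Cfsg.Agent.Lib.Fi24Pres.Data.D2
import Cfsg.Agent.Lib.Fi24Pres.Data.D3
import Cfsg.Agent.Lib.Fi24Pres.Data.D4
import Cfsg.Agent.Lib.Fi24Pres.Data.D5
import Cfsg.Agent.Lib.Fi24Pres.Data.D6
import Cfsg.Agent.Lib.Fi24Pres.Data.D7
import Cfsg.Agent.Lib.Fi24Pres.Data.D8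
import Cfsg.Agent.Lib.Fi24Pres.Data.D9

/-! The word of length fourteen, one part of the points. -/

set_option autoImplicit false
set_option maxRecDepth 100000
set_option Elab.async false

namespace Cfsg.Agent.Fi24Pres.Cover3

noncomputable section

theorem qz_def2_0 : allIn (fun c => Nat.beq (T20.get qz3 c) (comp [genH e3 d3 3, genH e2 d2 2, genH e1 d1 1, genH e0 d0 0, odd3 dk3, lift0 actL, genH e3 d3 3, genH e4 d4 4, genH e5 d5 5, genH e6 d6 6, genH e9 d9 9, genH e3 d3 3, genH e7 d7 7, genH e8 d8 8] (lift3 c))) 212992 8192 = true := by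
  decide +kernel

theorem qz_def2_1 : allIn (fun c => Nat.beq (T20.get qz3 c) (comp [genH e3 d3 3, genH e2 d2 2, genH e1 d1 1, genH e0 d0 0, odd3 dk3, lift0 actL, genH e3 d3 3, genH e4 d4 4, genH e5 d5 5, genH e6 d6 6, genH e9 d9 9, genH e3 d3 3, genH e7 d7 7, genH e8 d8 8] (lift3 c))) 221184 8192 = true := by
  decide +kernel

theorem qz_def2_2 : allIn (fun c => Nat.beq (T20.get qz3 c) (comp [genH e3 d3 3, genH e2 d2 2, genH e1 d1 1, genH e0 d0 0, odd3 dk3, lift0 actL, genH e3 d3 3, genH e4 d4 4, genH e5 d5 5, genH e6 d6 6, genH e9 d9 9, genH e3 d3 3, genH e7 d7 7, genH e8 d8 8] (lift3 c))) 229376 8192 = true := by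
  decide +kernel

theorem qz_def2_3 : allIn (fun c => Nat.beq (T20.get qz3 c) (comp [genH e3 d3 3, genH e2 d2 2, genH e1 d1 1, genH e0 d0 0, odd3 dk3, lift0 actL, genH e3 d3 3, genH e4 d4 4, genH e5 d5 5, genH e6 d6 6, genH e9 d9 9, genH e3 d3 3, genH e7 d7 7, genH e8 d8 8] (lift3 c))) 237568 8192 = true := by
  decide +kernel

theorem qz_def2_4 : allIn (fun c => Nat.beq (T20.get qz3 c) (comp [genH e3 d3 3, genH e2 d2 2, genH e1 d1 1, genH e0 d0 0, odd3 dk3, lift0 actL, genH e3 d3 3, genH e4 d4 4, genH e5 d5 5, genH e6 d6 6, genH e9 d9 9, genH e3 d3 3, genH e7 d7 7, genH e8 d8 8] (lift3 c))) 245760 8192 = true := by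
  decide +kernel

theorem qz_def2_5 : allIn (fun c => Nat.beq (T20.get qz3 c) (comp [genH e3 d3 3, genH e2 d2 2, genH e1 d1 1, genH e0 d0 0, odd3 dk3, lift0 actL, genH e3 d3 3, genH e4 d4 4, genH e5 d5 5, genH e6 d6 6, genH e9 d9 9, genH e3 d3 3, genH e7 d7 7, genH e8 d8 8] (lift3 c))) 253952 8192 = true := by
  decide +kernel

theorem qz_def2_6 : allIn (fun c => Nat.beq (T20.get qz3 c) (comp [genH e3 d3 3, genH e2 d2 2, genH e1 d1 1, genH e0 d0 0, odd3 dk3, lift0 actL, genH e3 d3 3, genH e4 d4 4, genH e5 d5 5, genH e6 d6 6, genH e9 d9 9, genH e3 d3 3, genH e7 d7 7, genH e8 d8 8] (lift3 c))) 262144 8192 = true := by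
  decide +kernel

theorem qz_def2_7 : allIn (fun c => Nat.beq (T20.get qz3 c) (comp [genH e3 d3 3, genH e2 d2 2, genH e1 d1 1, genH e0 d0 0, odd3 dk3, lift0 actL, genH e3 d3 3, genH e4 d4 4, genH e5 d5 5, genH e6 d6 6, genH e9 d9 9, genH e3 d3 3, genH e7 d7 7, genH e8 d8 8] (lift3 c))) 270336 8192 = true := by
  decide +kernel

theorem qz_def2_8 : allIn (fun c => Nat.beq (T20.get qz3 c) (comp [genH e3 d3 3, genH e2 d2 2, genH e1 d1 1, genH e0 d0 0, odd3 dk3, lift0 actL, genH e3 d3 3, genH e4 d4 4, genH e5 d5 5, genH e6 d6 6, genH e9 d9 9, genH e3 d3 3, genH e7 d7 7, genH e8 d8 8] (lift3 c))) 278528 8192 = true := by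
  decide +kernel

theorem qz_def2_9 : allIn (fun c => Nat.beq (T20.get qz3 c) (comp [genH e3 d3 3, genH e2 d2 2, genH e1 d1 1, genH e0 d0 0, odd3 dk3, lift0 actL, genH e3 d3 3, genH e4 d4 4, genH e5 d5 5, genH e6 d6 6, genH e9 d9 9, genH e3 d3 3, genH e7 d7 7, genH e8 d8 8] (lift3 c))) 286720 8192 = true := by
  decide +kernel

theorem qz_def2_10 : allIn (fun c => Nat.beq (T20.get qz3 c) (comp [genH e3 d3 3, genH e2 d2 2, genH e1 d1 1, genH e0 d0 0, odd3 dk3, lift0 actL, genH e3 d3 3, genH e4 d4 4, genH e5 d5 5, genH e6 d6 6, genH e9 d9 9, genH e3 d3 3, genH e7 d7 7, genH e8 d8 8] (lift3 c))) 294912 8192 = true := by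
  decide +kernel

theorem qz_def2_11 : allIn (fun c => Nat.beq (T20.get qz3 c) (comp [genH e3 d3 3, genH e2 d2 2, genH e1 d1 1, genH e0 d0 0, odd3 dk3, lift0 actL, genH e3 d3 3, genH e4 d4 4, genH e5 d5 5, genH e6 d6 6, genH e9 d9 9, genH e3 d3 3, genH e7 d7 7, genH e8 d8 8] (lift3 c))) 303104 3832 = true := by
  decide +kernel

theorem qz_def2 : ∀ c, 212992 ≤ c → c < 306936 → (fun c => Nat.beq (T20.get qz3 c) (comp [genH e3 d3 3, genH e2 d2 2, genH e1 d1 1, genH e0 d0 0, odd3 dk3, lift0 actL, genH e3 d3 3, genH e4 d4 4, genH e5 d5 5, genH e6 d6 6, genH e9 d9 9, genH e3 d3 3, genH e7 d7 7, genH e8 d8 8] (lift3 c))) c = true :=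
  allIn_glue qz_def2_0 (allIn_glue qz_def2_1 (allIn_glue qz_def2_2 (allIn_glue qz_def2_3 (allIn_glue qz_def2_4 (allIn_glue qz_def2_5 (allIn_glue qz_def2_6 (allIn_glue qz_def2_7 (allIn_glue qz_def2_8 (allIn_glue qz_def2_9 (allIn_glue qz_def2_10 (allIn_spec qz_def2_11)))))))))))

end

end Cfsg.Agent.Fi24Pres.Cover3
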