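import Cfsg.Agent.Lib.Fi24Pres.Cover3.Maps
import Cfsg.Agent.Lib.Fi24Pres.Cover3.Data.Qz3

/-! Its seventeenth power is a shift. -/

set_option autoImplicit false
set_option maxRecDepth 100000
set_option Elab.async false

namespace Cfsg.Agent.Fi24Pres.Cover3

noncomputable section

theorem qz_pow_0 : allIn (powAt key3 lift3 (even3 qz3) (fun n => tau (tau n)) 17) 0 8192 = true := by
  decide +kernel

theorem qz_pow_1 : allIn (powAt key3 lift3 (even3 qz3) (fun n => tau (tau n)) 17) 8192 8192 = true := by
  decide +kernel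

theorem qz_pow_2 : allIn (powAt key3 lift3 (even3 qz3) (fun n => tau (tau n)) 17) 16384 8192 = true := by
  decide +kernel

theorem qz_pow_3 : allIn (powAt key3 lift3 (even3 qz3) (fun n => tau (tau n)) 17) 24576 8192 = true := by
  decide +kernel

theorem qz_pow_4 : allIn (powAt key3 lift3 (even3 qz3) (fun n => tau (tau n)) 17) 32768 8192 = true := by
  decide +kernel

theorem qz_pow_5 : allIn (powAt key3 lift3 (even3 qz3) (fun n => tau (tau n)) 17) 40960 8192 = true := by
  decide +kernel

theorem qz_pow_6 : allIn (powAt key3 lift3 (even3 qz3) (fun n => tau (tau n)) 17) 49152 8192 = true := by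
  decide +kernel

theorem qz_pow_7 : allIn (powAt key3 lift3 (even3 qz3) (fun n => tau (tau n)) 17) 57344 8192 = true := by
  decide +kernel

theorem qz_pow_8 : allIn (powAt key3 lift3 (even3 qz3) (fun n => tau (tau n)) 17) 65536 8192 = true := by
  decide +kernel

theorem qz_pow_9 : allIn (powAt key3 lift3 (even3 qz3) (fun n => tau (tau n)) 17) 73728 8192 = true := by
  decide +kernel

theorem qz_pow_10 : allIn (powAt key3 lift3 (even3 qz3) (fun n => tau (tau n)) 17) 81920 8192 = true := by
  decide +kernel

theorem qz_pow_11 : allIn (powAt key3 lift3 (even3 qz3) (fun n => tau (tau n)) 17) 90112 8192 = true := by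
  decide +kernel

theorem qz_pow_12 : allIn (powAt key3 lift3 (even3 qz3) (fun n => tau (tau n)) 17) 98304 8192 = true := by
  decide +kernel

theorem qz_pow_13 : allIn (powAt key3 lift3 (even3 qz3) (fun n => tau (tau n)) 17) 106496 8192 = true := by
  decide +kernel

theorem qz_pow_14 : allIn (powAt key3 lift3 (even3 qz3) (fun n => tau (tau n)) 17) 114688 8192 = true := by
  decide +kernel

theorem qz_pow_15 : allIn (powAt key3 lift3 (even3 qz3) (fun n => tau (tau n)) 17) 122880 8192 = true := by
  decide +kernel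

theorem qz_pow_16 : allIn (powAt key3 lift3 (even3 qz3) (fun n => tau (tau n)) 17) 131072 8192 = true := by
  decide +kernel

theorem qz_pow_17 : allIn (powAt key3 lift3 (even3 qz3) (fun n => tau (tau n)) 17) 139264 8192 = true := by
  decide +kernel

theorem qz_pow_18 : allIn (powAt key3 lift3 (even3 qz3) (fun n => tau (tau n)) 17) 147456 8192 = true := by
  decide +kernel

theorem qz_pow_19 : allIn (powAt key3 lift3 (even3 qz3) (fun n => tau (tau n)) 17) 155648 8192 = true := by
  decide +kernel

theorem qz_pow_20 : allIn (powAt key3 lift3 (even3 qz3) (fun n => tau (tau n)) 17) 163840 8192 = true := by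
  decide +kernel

theorem qz_pow_21 : allIn (powAt key3 lift3 (even3 qz3) (fun n => tau (tau n)) 17) 172032 8192 = true := by
  decide +kernel

theorem qz_pow_22 : allIn (powAt key3 lift3 (even3 qz3) (fun n => tau (tau n)) 17) 180224 8192 = true := by
  decide +kernel

theorem qz_pow_23 : allIn (powAt key3 lift3 (even3 qz3) (fun n => tau (tau n)) 17) 188416 8192 = true := by
  decide +kernel

theorem qz_pow_24 : allIn (powAt key3 lift3 (even3 qz3) (fun n => tau (tau n)) 17) 196608 8192 = true := by
  decide +kernel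

theorem qz_pow_25 : allIn (powAt key3 lift3 (even3 qz3) (fun n => tau (tau n)) 17) 204800 8192 = true := by
  decide +kernel

theorem qz_pow_26 : allIn (powAt key3 lift3 (even3 qz3) (fun n => tau (tau n)) 17) 212992 8192 = true := by
  decide +kernel

theorem qz_pow_27 : allIn (powAt key3 lift3 (even3 qz3) (fun n => tau (tau n)) 17) 221184 8192 = true := by
  decide +kernel

theorem qz_pow_28 : allIn (powAt key3 lift3 (even3 qz3) (fun n => tau (tau n)) 17) 229376 8192 = true := by
  decide +kernel

theorem qz_pow_29 : allIn (powAt key3 lift3 (even3 qz3) (fun n => tau (tau n)) 17) 237568 8192 = true := by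
  decide +kernel

theorem qz_pow_30 : allIn (powAt key3 lift3 (even3 qz3) (fun n => tau (tau n)) 17) 245760 8192 = true := by
  decide +kernel

theorem qz_pow_31 : allIn (powAt key3 lift3 (even3 qz3) (fun n => tau (tau n)) 17) 253952 8192 = true := by
  decide +kernel

theorem qz_pow_32 : allIn (powAt key3 lift3 (even3 qz3) (fun n => tau (tau n)) 17) 262144 8192 = true := by
  decide +kernel

theorem qz_pow_33 : allIn (powAt key3 lift3 (even3 qz3) (fun n => tau (tau n)) 17) 270336 8192 = true := by
  decide +kernel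

theorem qz_pow_34 : allIn (powAt key3 lift3 (even3 qz3) (fun n => tau (tau n)) 17) 278528 8192 = true := by
  decide +kernel

theorem qz_pow_35 : allIn (powAt key3 lift3 (even3 qz3) (fun n => tau (tau n)) 17) 286720 8192 = true := by
  decide +kernel

theorem qz_pow_36 : allIn (powAt key3 lift3 (even3 qz3) (fun n => tau (tau n)) 17) 294912 8192 = true := by
  decide +kernel

theorem qz_pow_37 : allIn (powAt key3 lift3 (even3 qz3) (fun n => tau (tau n)) 17) 303104 3832 = true := by
  decide +kernel

theorem qz_pow : ∀ c < 306936, (powAt key3 lift3 (even3 qz3) (fun n => tau (tau n)) 17) c = true := fun c hc =>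
  (allIn_glue qz_pow_0 (allIn_glue qz_pow_1 (allIn_glue qz_pow_2 (allIn_glue qz_pow_3 (allIn_glue qz_pow_4 (allIn_glue qz_pow_5 (allIn_glue qz_pow_6 (allIn_glue qz_pow_7 (allIn_glue qz_pow_8 (allIn_glue qz_pow_9 (allIn_glue qz_pow_10 (allIn_glue qz_pow_11 (allIn_glue qz_pow_12 (allIn_glue qz_pow_13 (allIn_glue qz_pow_14 (allIn_glue qz_pow_15 (allIn_glue qz_pow_16 (allIn_glue qz_pow_17 (allIn_glue qz_pow_18 (allIn_glue qz_pow_19 (allIn_glue qz_pow_20 (allIn_glue qz_pow_21 (allIn_glue qz_pow_22 (allIn_glue qz_pow_23 (allIn_glue qz_pow_24 (allIn_glue qz_pow_25 (allIn_glue qz_pow_26 (allIn_glue qz_pow_27 (allIn_glue qz_pow_28 (allIn_glue qz_pow_29 (allIn_glue qz_pow_30 (allIn_glue qz_pow_31 (allIn_glue qz_pow_32 (allIn_glue qz_pow_33 (allIn_glue qz_pow_34 (allIn_glue qz_pow_35 (allIn_glue qz_pow_36 (allIn_spec qz_pow_37)))))))))))))))))))))))))))))))))))))) c (Nat.zero_le c) hc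

end

end Cfsg.Agent.Fi24Pres.Cover3
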