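import Cfsg.Agent.Lib.Fi24Pres.Cover3.Maps
import Cfsg.Agent.Lib.Fi24Pres.Cover3.Data.E3

/-! An involution of the six-fold cover. -/

set_option autoImplicit false
set_option maxRecDepth 100000
set_option Elab.async false

namespace Cfsg.Agent.Fi24Pres.Cover3

noncomputable section

theorem invc3_0 : allIn (invAt lift6 (act6 e3) (6 * 137632)) 0 8192 = true := by
  decide +kernel

theorem invc3_1 : allIn (invAt lift6 (act6 e3) (6 * 137632)) 8192 8192 = true := by
  decide +kernel

theorem invc3_2 : allIn (invAt lift6 (act6 e3) (6 * 137632)) 16384 8192 = true := by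
  decide +kernel

theorem invc3_3 : allIn (invAt lift6 (act6 e3) (6 * 137632)) 24576 8192 = true := by
  decide +kernel

theorem invc3_4 : allIn (invAt lift6 (act6 e3) (6 * 137632)) 32768 8192 = true := by
  decide +kernel

theorem invc3_5 : allIn (invAt lift6 (act6 e3) (6 * 137632)) 40960 8192 = true := by
  decide +kernel

theorem invc3_6 : allIn (invAt lift6 (act6 e3) (6 * 137632)) 49152 8192 = true := by
  decide +kernel

theorem invc3_7 : allIn (invAt lift6 (act6 e3) (6 * 137632)) 57344 8192 = true := by
  decide +kernel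

theorem invc3_8 : allIn (invAt lift6 (act6 e3) (6 * 137632)) 65536 8192 = true := by
  decide +kernel

theorem invc3_9 : allIn (invAt lift6 (act6 e3) (6 * 137632)) 73728 8192 = true := by
  decide +kernel

theorem invc3_10 : allIn (invAt lift6 (act6 e3) (6 * 137632)) 81920 8192 = true := by
  decide +kernel

theorem invc3_11 : allIn (invAt lift6 (act6 e3) (6 * 137632)) 90112 8192 = true := by
  decide +kernel

theorem invc3_12 : allIn (invAt lift6 (act6 e3) (6 * 137632)) 98304 8192 = true := by
  decide +kernel

theorem invc3_13 : allIn (invAt lift6 (act6 e3) (6 * 137632)) 106496 8192 = true := by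
  decide +kernel

theorem invc3_14 : allIn (invAt lift6 (act6 e3) (6 * 137632)) 114688 8192 = true := by
  decide +kernel

theorem invc3_15 : allIn (invAt lift6 (act6 e3) (6 * 137632)) 122880 8192 = true := by
  decide +kernel

theorem invc3_16 : allIn (invAt lift6 (act6 e3) (6 * 137632)) 131072 6560 = true := by
  decide +kernel

theorem invc3 : ∀ c < 137632, (invAt lift6 (act6 e3) (6 * 137632)) c = true := fun c hc =>
  (allIn_glue invc3_0 (allIn_glue invc3_1 (allIn_glue invc3_2 (allIn_glue invc3_3 (allIn_glue invc3_4 (allIn_glue invc3_5 (allIn_glue invc3_6 (allIn_glue invc3_7 (allIn_glue invc3_8 (allIn_glue invc3_9 (allIn_glue invc3_10 (allIn_glue invc3_11 (allIn_glue invc3_12 (allIn_glue invc3_13 (allIn_glue invc3_14 (allIn_glue invc3_15 (allIn_spec invc3_16))))))))))))))))) c (Nat.zero_le c) hc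

theorem inv3 : Inv (act6 e3) (6 * 137632) := inv6_of_checks (tw_act6 _) (fl_act6 _) invc3

end

end Cfsg.Agent.Fi24Pres.Cover3
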