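import Cfsg.Agent.Lib.Fi24Pres.Cover3.Maps
import Cfsg.Agent.Lib.Fi24Pres.Cover3.Data.E5

/-! An involution of the six-fold cover. -/

set_option autoImplicit false
set_option maxRecDepth 100000
set_option Elab.async false

namespace Cfsg.Agent.Fi24Pres.Cover3

noncomputable section

theorem invc5_0 : allIn (invAt lift6 (act6 e5) (6 * 137632)) 0 8192 = true := by
  decide +kernel

theorem invc5_1 : allIn (invAt lift6 (act6 e5) (6 * 137632)) 8192 8192 = true := by
  decide +kernel

theorem invc5_2 : allIn (invAt lift6 (act6 e5) (6 * 137632)) 16384 8192 = true := by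
  decide +kernel

theorem invc5_3 : allIn (invAt lift6 (act6 e5) (6 * 137632)) 24576 8192 = true := by
  decide +kernel

theorem invc5_4 : allIn (invAt lift6 (act6 e5) (6 * 137632)) 32768 8192 = true := by
  decide +kernel

theorem invc5_5 : allIn (invAt lift6 (act6 e5) (6 * 137632)) 40960 8192 = true := by
  decide +kernel

theorem invc5_6 : allIn (invAt lift6 (act6 e5) (6 * 137632)) 49152 8192 = true := by
  decide +kernel

theorem invc5_7 : allIn (invAt lift6 (act6 e5) (6 * 137632)) 57344 8192 = true := by
  decide +kernel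

theorem invc5_8 : allIn (invAt lift6 (act6 e5) (6 * 137632)) 65536 8192 = true := by
  decide +kernel

theorem invc5_9 : allIn (invAt lift6 (act6 e5) (6 * 137632)) 73728 8192 = true := by
  decide +kernel

theorem invc5_10 : allIn (invAt lift6 (act6 e5) (6 * 137632)) 81920 8192 = true := by
  decide +kernel

theorem invc5_11 : allIn (invAt lift6 (act6 e5) (6 * 137632)) 90112 8192 = true := by
  decide +kernel

theorem invc5_12 : allIn (invAt lift6 (act6 e5) (6 * 137632)) 98304 8192 = true := by
  decide +kernel

theorem invc5_13 : allIn (invAt lift6 (act6 e5) (6 * 137632)) 106496 8192 = true := by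
  decide +kernel

theorem invc5_14 : allIn (invAt lift6 (act6 e5) (6 * 137632)) 114688 8192 = true := by
  decide +kernel

theorem invc5_15 : allIn (invAt lift6 (act6 e5) (6 * 137632)) 122880 8192 = true := by
  decide +kernel

theorem invc5_16 : allIn (invAt lift6 (act6 e5) (6 * 137632)) 131072 6560 = true := by
  decide +kernel

theorem invc5 : ∀ c < 137632, (invAt lift6 (act6 e5) (6 * 137632)) c = true := fun c hc =>
  (allIn_glue invc5_0 (allIn_glue invc5_1 (allIn_glue invc5_2 (allIn_glue invc5_3 (allIn_glue invc5_4 (allIn_glue invc5_5 (allIn_glue invc5_6 (allIn_glue invc5_7 (allIn_glue invc5_8 (allIn_glue invc5_9 (allIn_glue invc5_10 (allIn_glue invc5_11 (allIn_glue invc5_12 (allIn_glue invc5_13 (allIn_glue invc5_14 (allIn_glue invc5_15 (allIn_spec invc5_16))))))))))))))))) c (Nat.zero_le c) hc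

theorem inv5 : Inv (act6 e5) (6 * 137632) := inv6_of_checks (tw_act6 _) (fl_act6 _) invc5

end

end Cfsg.Agent.Fi24Pres.Cover3
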