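import Cfsg.Agent.Lib.Fi24Pres.Cover3.Maps
import Cfsg.Agent.Lib.Fi24Pres.Cover3.Data.Qe6
import Cfsg.Agent.Lib.Fi24Pres.Cover3.Data.E0
import Cfsg.Agent.Lib.Fi24Pres.Cover3.Data.E1
import Cfsg.Agent.Lib.Fi24Pres.Cover3.Data.E2
import Cfsg.Agent.Lib.Fi24Pres.Cover3.Data.E3
import Cfsg.Agent.Lib.Fi24Pres.Cover3.Data.E4
import Cfsg.Agent.Lib.Fi24Pres.Cover3.Data.E5
import Cfsg.Agent.Lib.Fi24Pres.Cover3.Data.E7

/-! The word of length seven on the six-fold cover and its ninth power. -/

set_option autoImplicit false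
set_option maxRecDepth 100000
set_option Elab.async false

namespace Cfsg.Agent.Fi24Pres.Cover3

noncomputable section

theorem qe_def_0 : allIn (fun p => Nat.beq (act6 qe6 (lift6 p)) (comp [act6 e0, act6 e1, act6 e2, act6 e3, act6 e4, act6 e5, act6 e7] (lift6 p))) 0 8192 = true := by
  decide +kernel

theorem qe_def_1 : allIn (fun p => Nat.beq (act6 qe6 (lift6 p)) (comp [act6 e0, act6 e1, act6 e2, act6 e3, act6 e4, act6 e5, act6 e7] (lift6 p))) 8192 8192 = true := by
  decide +kernel

theorem qe_def_2 : allIn (fun p => Nat.beq (act6 qe6 (lift6 p)) (comp [act6 e0, act6 e1, act6 e2, act6 e3, act6 e4, act6 e5, act6 e7] (lift6 p))) 16384 8192 = true := by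
  decide +kernel

theorem qe_def_3 : allIn (fun p => Nat.beq (act6 qe6 (lift6 p)) (comp [act6 e0, act6 e1, act6 e2, act6 e3, act6 e4, act6 e5, act6 e7] (lift6 p))) 24576 8192 = true := by
  decide +kernel

theorem qe_def_4 : allIn (fun p => Nat.beq (act6 qe6 (lift6 p)) (comp [act6 e0, act6 e1, act6 e2, act6 e3, act6 e4, act6 e5, act6 e7] (lift6 p))) 32768 8192 = true := by
  decide +kernel

theorem qe_def_5 : allIn (fun p => Nat.beq (act6 qe6 (lift6 p)) (comp [act6 e0, act6 e1, act6 e2, act6 e3, act6 e4, act6 e5, act6 e7] (lift6 p))) 40960 8192 = true := by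
  decide +kernel

theorem qe_def_6 : allIn (fun p => Nat.beq (act6 qe6 (lift6 p)) (comp [act6 e0, act6 e1, act6 e2, act6 e3, act6 e4, act6 e5, act6 e7] (lift6 p))) 49152 8192 = true := by
  decide +kernel

theorem qe_def_7 : allIn (fun p => Nat.beq (act6 qe6 (lift6 p)) (comp [act6 e0, act6 e1, act6 e2, act6 e3, act6 e4, act6 e5, act6 e7] (lift6 p))) 57344 8192 = true := by
  decide +kernel

theorem qe_def_8 : allIn (fun p => Nat.beq (act6 qe6 (lift6 p)) (comp [act6 e0, act6 e1, act6 e2, act6 e3, act6 e4, act6 e5, act6 e7] (lift6 p))) 65536 8192 = true := by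
  decide +kernel

theorem qe_def_9 : allIn (fun p => Nat.beq (act6 qe6 (lift6 p)) (comp [act6 e0, act6 e1, act6 e2, act6 e3, act6 e4, act6 e5, act6 e7] (lift6 p))) 73728 8192 = true := by
  decide +kernel

theorem qe_def_10 : allIn (fun p => Nat.beq (act6 qe6 (lift6 p)) (comp [act6 e0, act6 e1, act6 e2, act6 e3, act6 e4, act6 e5, act6 e7] (lift6 p))) 81920 8192 = true := by
  decide +kernel

theorem qe_def_11 : allIn (fun p => Nat.beq (act6 qe6 (lift6 p)) (comp [act6 e0, act6 e1, act6 e2, act6 e3, act6 e4, act6 e5, act6 e7] (lift6 p))) 90112 8192 = true := by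
  decide +kernel

theorem qe_def_12 : allIn (fun p => Nat.beq (act6 qe6 (lift6 p)) (comp [act6 e0, act6 e1, act6 e2, act6 e3, act6 e4, act6 e5, act6 e7] (lift6 p))) 98304 8192 = true := by
  decide +kernel

theorem qe_def_13 : allIn (fun p => Nat.beq (act6 qe6 (lift6 p)) (comp [act6 e0, act6 e1, act6 e2, act6 e3, act6 e4, act6 e5, act6 e7] (lift6 p))) 106496 8192 = true := by
  decide +kernel

theorem qe_def_14 : allIn (fun p => Nat.beq (act6 qe6 (lift6 p)) (comp [act6 e0, act6 e1, act6 e2, act6 e3, act6 e4, act6 e5, act6 e7] (lift6 p))) 114688 8192 = true := by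
  decide +kernel

theorem qe_def_15 : allIn (fun p => Nat.beq (act6 qe6 (lift6 p)) (comp [act6 e0, act6 e1, act6 e2, act6 e3, act6 e4, act6 e5, act6 e7] (lift6 p))) 122880 8192 = true := by
  decide +kernel

theorem qe_def_16 : allIn (fun p => Nat.beq (act6 qe6 (lift6 p)) (comp [act6 e0, act6 e1, act6 e2, act6 e3, act6 e4, act6 e5, act6 e7] (lift6 p))) 131072 6560 = true := by
  decide +kernel

theorem qe_def : ∀ c < 137632, (fun p => Nat.beq (act6 qe6 (lift6 p)) (comp [act6 e0, act6 e1, act6 e2, act6 e3, act6 e4, act6 e5, act6 e7] (lift6 p))) c = true := fun c hc =>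
  (allIn_glue qe_def_0 (allIn_glue qe_def_1 (allIn_glue qe_def_2 (allIn_glue qe_def_3 (allIn_glue qe_def_4 (allIn_glue qe_def_5 (allIn_glue qe_def_6 (allIn_glue qe_def_7 (allIn_glue qe_def_8 (allIn_glue qe_def_9 (allIn_glue qe_def_10 (allIn_glue qe_def_11 (allIn_glue qe_def_12 (allIn_glue qe_def_13 (allIn_glue qe_def_14 (allIn_glue qe_def_15 (allIn_spec qe_def_16))))))))))))))))) c (Nat.zero_le c) hc

theorem qe_pow_0 : allIn (powAt key6 lift6 (act6 qe6) flip6 9) 0 8192 = true := by
  decide +kernel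

theorem qe_pow_1 : allIn (powAt key6 lift6 (act6 qe6) flip6 9) 8192 8192 = true := by
  decide +kernel

theorem qe_pow_2 : allIn (powAt key6 lift6 (act6 qe6) flip6 9) 16384 8192 = true := by
  decide +kernel

theorem qe_pow_3 : allIn (powAt key6 lift6 (act6 qe6) flip6 9) 24576 8192 = true := by
  decide +kernel

theorem qe_pow_4 : allIn (powAt key6 lift6 (act6 qe6) flip6 9) 32768 8192 = true := by
  decide +kernel

theorem qe_pow_5 : allIn (powAt key6 lift6 (act6 qe6) flip6 9) 40960 8192 = true := by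
  decide +kernel

theorem qe_pow_6 : allIn (powAt key6 lift6 (act6 qe6) flip6 9) 49152 8192 = true := by
  decide +kernel

theorem qe_pow_7 : allIn (powAt key6 lift6 (act6 qe6) flip6 9) 57344 8192 = true := by
  decide +kernel

theorem qe_pow_8 : allIn (powAt key6 lift6 (act6 qe6) flip6 9) 65536 8192 = true := by
  decide +kernel

theorem qe_pow_9 : allIn (powAt key6 lift6 (act6 qe6) flip6 9) 73728 8192 = true := by
  decide +kernel

theorem qe_pow_10 : allIn (powAt key6 lift6 (act6 qe6) flip6 9) 81920 8192 = true := by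
  decide +kernel

theorem qe_pow_11 : allIn (powAt key6 lift6 (act6 qe6) flip6 9) 90112 8192 = true := by
  decide +kernel

theorem qe_pow_12 : allIn (powAt key6 lift6 (act6 qe6) flip6 9) 98304 8192 = true := by
  decide +kernel

theorem qe_pow_13 : allIn (powAt key6 lift6 (act6 qe6) flip6 9) 106496 8192 = true := by
  decide +kernel

theorem qe_pow_14 : allIn (powAt key6 lift6 (act6 qe6) flip6 9) 114688 8192 = true := by
  decide +kernel

theorem qe_pow_15 : allIn (powAt key6 lift6 (act6 qe6) flip6 9) 122880 8192 = true := by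
  decide +kernel

theorem qe_pow_16 : allIn (powAt key6 lift6 (act6 qe6) flip6 9) 131072 6560 = true := by
  decide +kernel

theorem qe_pow : ∀ c < 137632, (powAt key6 lift6 (act6 qe6) flip6 9) c = true := fun c hc =>
  (allIn_glue qe_pow_0 (allIn_glue qe_pow_1 (allIn_glue qe_pow_2 (allIn_glue qe_pow_3 (allIn_glue qe_pow_4 (allIn_glue qe_pow_5 (allIn_glue qe_pow_6 (allIn_glue qe_pow_7 (allIn_glue qe_pow_8 (allIn_glue qe_pow_9 (allIn_glue qe_pow_10 (allIn_glue qe_pow_11 (allIn_glue qe_pow_12 (allIn_glue qe_pow_13 (allIn_glue qe_pow_14 (allIn_glue qe_pow_15 (allIn_spec qe_pow_16))))))))))))))))) c (Nat.zero_le c) hc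

end

end Cfsg.Agent.Fi24Pres.Cover3
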